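import Groth.Agent.FinBirat.Chars

/-!
A uniform bound for the denominators of norms over a dense open.
-/

set_option autoImplicit false
set_option backward.isDefEq.respectTransparency false
set_option backward.isDefEq.respectTransparency.types false
set_option linter.style.haveILetI false
set_option linter.unusedSectionVars false

universe u

open CategoryTheory CategoryTheory.Limits AlgebraicGeometry TopologicalSpace Opposite Module
open Groth.Agent.QC (res resO res_res res_self res_smul resO_resO resO_self app_res)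
open Groth.Agent.NormAmple

noncomputable section

namespace Groth.Agent.FinBirat

open Groth.Agent

variable {X' X : Scheme.{u}} {g : X' ⟶ X} {O : X.Opens} {D : ℕ}

variable (O) in
/-- The vanishing ideal of the complement. -/
def Jc : X.IdealSheafData := Scheme.IdealSheafData.vanishingIdeal ⟨(O : Set X)ᶜ, O.2.isClosed_compl⟩

lemma support_Jc : ((Jc O).support : Set X) = (O : Set X)ᶜ := by
  rw [Jc, Scheme.IdealSheafData.coe_support_vanishingIdeal]; rfl

lemma basicOpen_le_of_mem {U : X.affineOpens} {c : Γ(X, U.1)} (hc : c ∈ (Jc O).ideal U) :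
    X.basicOpen c ≤ O := fun y hy => by
  by_contra hyO
  have hys : y ∈ ((Jc O).support : Set X) := by rw [support_Jc]; exact hyO
  have h1 := ((Jc O).mem_support_iff_of_mem (U := U) (X.basicOpen_le _ hy)).mp hys
  rw [Scheme.mem_zeroLocus_iff] at h1
  exact h1 c hc hy

lemma ι_app_res {W U : X.Opens} (h : W ≤ U) (c : Γ(X, U)) :
    O.ι.app W (resO X h c) = resO O.toScheme (O.ι.preimage_mono h) (O.ι.app U c) :=
  congr(($(O.ι.naturality (homOfLE h).op)).hom c)

lemma ι_app_injective [IsReduced X] (hO : Dense (O : Set X)) (U : X.Opens) :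
    Function.Injective (O.ι.app U) := by
  rw [injective_iff_map_eq_zero]
  intro c hc
  rw [← AlgebraicGeometry.basicOpen_eq_bot_iff]
  by_contra hne
  obtain ⟨y, hy, hyO⟩ := hO.inter_open_nonempty _ (X.basicOpen c).2
    (Set.nonempty_iff_ne_empty.mpr fun h => hne (Opens.ext h))
  have : (⟨y, hyO⟩ : O.toScheme) ∈ O.ι ⁻¹ᵁ X.basicOpen c := hy
  rw [Scheme.preimage_basicOpen, hc, Scheme.basicOpen_zero] at this
  exact this

/-- Regular elements in powers of the ideal of the complement. -/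
theorem exists_regular [IsNoetherian X] [IsReduced X]
    (hdense : ∀ O' : O.toScheme.Opens, (O' : Set O.toScheme).Nonempty →
      ∃ W, W ≤ O' ∧ (W : Set O.toScheme).Nonempty ∧ Good (g ∣_ O) D W) (m : ℕ) (U : X.affineOpens) :
    ∃ c ∈ ((Jc O) ^ m).ideal U, ∀ x : Γ(O.toScheme, O.ι ⁻¹ᵁ U.1), O.ι.app U.1 c * x = 0 → x = 0 := by
  classical
  haveI : CompactSpace O.toScheme := isCompact_iff_compactSpace.mp (NoetherianSpace.isCompact (O : Set X))
  haveI : IsNoetherian O.toScheme := ⟨⟩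
  haveI : IsReduced O.toScheme := isReduced_of_isOpenImmersion O.ι
  obtain ⟨ι, hι, W, hW, hWp, hinj⟩ := exists_pieces hdense (O.ι ⁻¹ᵁ U.1)
  haveI := Fintype.ofFinite ι
  haveI := fun i => (hWp i).2
  let ρ : ∀ i, Γ(X, U.1) →+* Γ(O.toScheme, W i) := fun i =>
    (resO O.toScheme (hW i)).comp (O.ι.app U.1).hom
  have hnot : ∀ i, ¬ (Jc O).ideal U ≤ RingHom.ker (ρ i) := fun i hle => by
    have hne : ((W i : O.toScheme.Opens) : Set O.toScheme).Nonempty := by
      rw [Set.nonempty_iff_ne_empty]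
      intro h0
      have hb : W i = ⊥ := Opens.ext h0
      have : Subsingleton Γ(O.toScheme, W i) := by rw [hb]; infer_instance
      exact not_subsingleton Γ(O.toScheme, W i) this
    obtain ⟨y, hy⟩ := hne
    have hyU : O.ι y ∈ U.1 := hW i hy
    have hns : O.ι y ∉ ((Jc O).support : Set X) := by rw [support_Jc]; exact fun h => h y.2
    rw [SetLike.mem_coe, Scheme.IdealSheafData.mem_support_iff_of_mem (U := U) hyU, Scheme.mem_zeroLocus_iff] at hns
    push Not at hns
    obtain ⟨c, hc, hyc⟩ := hns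
    have h0 : resO O.toScheme (hW i) (O.ι.app U.1 c) = 0 := RingHom.mem_ker.mp (hle hc)
    have h1 : y ∈ O.ι ⁻¹ᵁ X.basicOpen c := hyc
    rw [Scheme.preimage_basicOpen] at h1
    have h2 : y ∈ O.toScheme.basicOpen (resO O.toScheme (hW i) (O.ι.app U.1 c)) :=
      (O.toScheme.basicOpen_res _ _).ge ⟨hy, h1⟩
    rw [h0, Scheme.basicOpen_zero] at h2
    exact h2
  obtain ⟨c, hc, hcn⟩ : ∃ c ∈ (Jc O).ideal U, ∀ i, c ∉ RingHom.ker (ρ i) := by
    by_contra! hall
    have hsub : ((Jc O).ideal U : Set Γ(X, U.1)) ⊆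
        ⋃ i ∈ (↑(Finset.univ : Finset ι) : Set ι), (RingHom.ker (ρ i) : Set Γ(X, U.1)) := fun c hc => by
      obtain ⟨i, hi⟩ := hall c hc
      exact Set.mem_iUnion₂.mpr ⟨i, Finset.mem_coe.mpr (Finset.mem_univ i), hi⟩
    rcases isEmpty_or_nonempty ι with h | ⟨⟨i₀⟩⟩
    · obtain ⟨i, -⟩ := hall 0 (zero_mem _)
      exact isEmptyElim i
    · obtain ⟨i, -, hi⟩ := (Ideal.subset_union_prime i₀ i₀ fun i _ _ _ => RingHom.ker_isPrime (ρ i)).mp hsub
      exact hnot i hi
  refine ⟨c ^ m, ?_, fun x hx => hinj x fun i => ?_⟩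
  · rw [Scheme.IdealSheafData.ideal_pow, Pi.pow_apply]
    exact Ideal.pow_mem_pow hc m
  · have h := congrArg (resO O.toScheme (hW i)) hx
    rw [map_mul, map_zero, map_pow, map_pow] at h
    exact (mul_eq_zero.mp h).resolve_left (pow_ne_zero _ fun h0 => hcn i h0)

variable [IsNoetherian X] [IsReduced X] [IsFinite g] (N : NormMap (g ∣_ O) D)
  (hN : ∀ V a, IsNorm (g ∣_ O) D a (N.ν V a))
  (hdense : ∀ O' : O.toScheme.Opens, (O' : Set O.toScheme).Nonempty →
    ∃ W, W ≤ O' ∧ (W : Set O.toScheme).Nonempty ∧ Good (g ∣_ O) D W)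

include hN hdense in
/-- On one affine open some power of the ideal clears the denominators. -/
theorem exists_bound_at (hD : 0 < D) (U : X.affineOpens) :
    ∃ m, ∀ a, ∀ c ∈ (Jc O).ideal U ^ m, ∃ e, O.ι.app U.1 c * nU N U.1 a = O.ι.app U.1 e := by
  classical
  haveI : IsReduced O.toScheme := isReduced_of_isOpenImmersion O.ι
  letI := (O.ι.app U.1).hom.toAlgebra
  haveI : IsNoetherianRing Γ(X, U.1) := IsLocallyNoetherian.component_noetherian U
  obtain ⟨-, hfg⟩ := integral_and_fg N hN hdense hD U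
  obtain ⟨G, hG⟩ := hfg
  let K : Ideal Γ(X, U.1) :=
    { carrier := {c | ∀ y ∈ G, ∃ e, O.ι.app U.1 c * y = O.ι.app U.1 e}
      add_mem' := fun {c d} hc hd y hy => by
        obtain ⟨e, he⟩ := hc y hy
        obtain ⟨e', he'⟩ := hd y hy
        exact ⟨e + e', by rw [map_add, add_mul, he, he', map_add]⟩
      zero_mem' := fun y _ => ⟨0, by rw [map_zero, zero_mul]⟩
      smul_mem' := fun r c hc y hy => by
        obtain ⟨e, he⟩ := hc y hy
        exact ⟨r * e, by rw [smul_eq_mul, map_mul, mul_assoc, he, map_mul]⟩ }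
  have key : ∀ c ∈ (Jc O).ideal U, ∀ y : Γ(O.toScheme, O.ι ⁻¹ᵁ U.1),
      ∃ k e, O.ι.app U.1 (c ^ k) * y = O.ι.app U.1 e := by
    intro c hc y
    let Dc := X.basicOpen c
    have hle : O.ι ⁻¹ᵁ Dc ≤ O.ι ⁻¹ᵁ U.1 := O.ι.preimage_mono (X.basicOpen_le c)
    haveI : IsIso (O.ι.app Dc) :=
      O.ι.isIso_app Dc (by rw [Scheme.Opens.opensRange_ι]; exact basicOpen_le_of_mem hc)
    obtain ⟨f, hf⟩ := (ConcreteCategory.bijective_of_isIso (O.ι.app Dc)).2 (resO O.toScheme hle y)
    letI : Algebra Γ(X, U.1) Γ(X, Dc) := (resO X (X.basicOpen_le c)).toAlgebra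
    haveI : IsLocalization.Away c Γ(X, Dc) := U.2.isLocalization_basicOpen c
    obtain ⟨k, e, he⟩ := IsLocalization.Away.surj c f
    refine ⟨k + 1, c * e, ?_⟩
    have h1 := congrArg (O.ι.app Dc).hom he
    rw [map_mul, map_pow, hf, show algebraMap _ _ c = resO X (X.basicOpen_le c) c from rfl,
      show algebraMap _ _ e = resO X (X.basicOpen_le c) e from rfl, ι_app_res, ι_app_res] at h1
    rw [pow_succ', map_mul, map_mul, mul_assoc, ← sub_eq_zero, ← mul_sub,
      ← AlgebraicGeometry.basicOpen_eq_bot_iff]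
    rw [Scheme.basicOpen_mul, ← Scheme.preimage_basicOpen, eq_bot_iff]
    rintro z ⟨hzc, hz⟩
    have h2 : z ∈ O.toScheme.basicOpen
        (resO O.toScheme hle (O.ι.app U.1 (c ^ k) * y - O.ι.app U.1 e)) :=
      (O.toScheme.basicOpen_res _ _).ge ⟨hzc, hz⟩
    rw [map_sub, map_mul, map_pow, map_pow, mul_comm, h1, sub_self, Scheme.basicOpen_zero] at h2
    exact h2
  have hrad : (Jc O).ideal U ≤ K.radical := fun c hc => by
    choose k e he using key c hc
    refine ⟨G.sup k, fun y hy => ⟨c ^ (G.sup k - k y) * e y, ?_⟩⟩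
    rw [map_mul, ← he y, ← mul_assoc, ← map_mul, ← pow_add, Nat.sub_add_cancel (Finset.le_sup hy)]
  obtain ⟨m, hm⟩ := Ideal.exists_pow_le_of_le_radical_of_fg hrad (IsNoetherian.noetherian _)
  refine ⟨m, fun a c hc => ?_⟩
  have ha : nU N U.1 a ∈ Submodule.span Γ(X, U.1) (G : Set Γ(O.toScheme, O.ι ⁻¹ᵁ U.1)) :=
    hG ▸ Submodule.subset_span ⟨a, rfl⟩
  revert ha
  generalize nU N U.1 a = y
  intro hy
  induction hy using Submodule.span_induction with
  | mem t ht => exact hm hc t ht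
  | zero => exact ⟨0, by rw [map_zero, mul_zero]⟩
  | add x y _ _ hx hy =>
    obtain ⟨e, he⟩ := hx
    obtain ⟨e', he'⟩ := hy
    exact ⟨e + e', by rw [mul_add, he, he', map_add]⟩
  | smul r x _ hx =>
    obtain ⟨e, he⟩ := hx
    refine ⟨r * e, ?_⟩
    rw [map_mul, ← he, Algebra.smul_def, mul_left_comm]
    rfl

include hN hdense in
/-- A uniform power of the ideal clears the denominators of all norms. -/
theorem exists_bound (hO : Dense (O : Set X)) (hD : 0 < D) :
    ∃ m, 0 < m ∧ ∀ (U : X.affineOpens) (a), ∀ c ∈ ((Jc O) ^ m).ideal U,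
      ∃ e, O.ι.app U.1 c * nU N U.1 a = O.ι.app U.1 e := by
  classical
  choose m hm using exists_bound_at N hN hdense hD
  obtain ⟨t, ht⟩ := isCompact_univ.elim_finite_subcover (fun V : X.affineOpens => (V.1 : Set X))
    (fun V => V.1.2) (fun x _ => by
      obtain ⟨V, hV, hxV, -⟩ := exists_isAffineOpen_mem_and_subset (x := x) (U := ⊤) trivial
      exact Set.mem_iUnion.mpr ⟨⟨V, hV⟩, hxV⟩)
  refine ⟨t.sup m + 1, Nat.succ_pos _, fun U a c hc => ?_⟩
  have hloc : ∀ y : U.1, ∃ (B : X.Opens) (hB : B ≤ U.1), y.1 ∈ B ∧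
      ∃ e, O.ι.app B (resO X hB c) * resO O.toScheme (O.ι.preimage_mono hB) (nU N U.1 a) = O.ι.app B e := by
    intro y
    obtain ⟨V, hVt, hyV⟩ := Set.mem_iUnion₂.mp (ht (Set.mem_univ y.1))
    obtain ⟨r, r', er, hyr⟩ := exists_basicOpen_le_affine_inter V.2 U.2 y.1 ⟨hyV, y.2⟩
    let B := X.basicOpen r
    have hBV : B ≤ V.1 := X.basicOpen_le r
    have hBU : B ≤ U.1 := er.trans_le (X.basicOpen_le r')
    let B' : X.affineOpens := ⟨B, V.2.basicOpen r⟩
    refine ⟨B, hBU, hyr, ?_⟩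
    -- the section as a fraction
    letI : Algebra Γ(X', g ⁻¹ᵁ V.1) Γ(X', g ⁻¹ᵁ B) := (resO X' (g.preimage_mono hBV)).toAlgebra
    haveI : IsLocalization.Away ((g.app V.1).hom r) Γ(X', g ⁻¹ᵁ B) :=
      (V.2.preimage g).isLocalization_of_eq_basicOpen _ (homOfLE (g.preimage_mono hBV)) (g.preimage_basicOpen r)
    obtain ⟨k, aV, haV⟩ := IsLocalization.Away.surj ((g.app V.1).hom r) (resO X' (g.preimage_mono hBU) a)
    have hn := congrArg (nU N B) haV
    rw [map_mul, map_pow, show algebraMap _ _ ((g.app V.1).hom r) = (g.app B).hom (resO X hBV r) from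
        congr(($(g.naturality (homOfLE hBV).op)).hom r).symm, nU_app, nU_res N hBU, show algebraMap _ _ aV =
        resO X' (g.preimage_mono hBV) aV from rfl, nU_res N hBV] at hn
    have hr : IsUnit (resO X hBV r : Γ(X, B)) := RingedSpace.isUnit_res_basicOpen _ r
    let K : Ideal Γ(X, B) :=
      { carrier := {c | ∃ e, O.ι.app B c * resO O.toScheme (O.ι.preimage_mono hBV) (nU N V.1 aV) = O.ι.app B e}
        add_mem' := fun {c d} ⟨e, he⟩ ⟨e', he'⟩ => ⟨e + e', by rw [map_add, add_mul, he, he', map_add]⟩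
        zero_mem' := ⟨0, by rw [map_zero, zero_mul]⟩
        smul_mem' := fun s c ⟨e, he⟩ => ⟨s * e, by rw [smul_eq_mul, map_mul, mul_assoc, he, map_mul]⟩ }
    have hcB : resO X hBU c ∈ ((Jc O) ^ (t.sup m + 1)).ideal B' := by
      rw [← ((Jc O) ^ (t.sup m + 1)).map_ideal (U := B') (V := U) hBU]
      exact Ideal.mem_map_of_mem _ hc
    have hK : ((Jc O) ^ (t.sup m + 1)).ideal B' ≤ K := by
      rw [← ((Jc O) ^ (t.sup m + 1)).map_ideal (U := B') (V := V) hBV, Ideal.map_le_iff_le_comap]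
      intro d hd
      rw [Scheme.IdealSheafData.ideal_pow, Pi.pow_apply] at hd
      obtain ⟨e, he⟩ := hm V aV d (Ideal.pow_le_pow_right ((Finset.le_sup hVt).trans (Nat.le_succ _)) hd)
      refine ⟨resO X hBV e, ?_⟩
      show O.ι.app B (resO X hBV d) * _ = _
      rw [ι_app_res, ι_app_res, ← map_mul, he]
    obtain ⟨e, he⟩ := hK hcB
    refine ⟨e * ((hr.unit⁻¹ : Γ(X, B)ˣ) : Γ(X, B)) ^ (D * k), ?_⟩
    rw [map_mul, ← he, ← hn, map_pow, ← pow_mul]
    have h1 : O.ι.app B (resO X hBV r) * O.ι.app B ((hr.unit⁻¹ : Γ(X, B)ˣ) : Γ(X, B)) = 1 := by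
      rw [← map_mul, IsUnit.mul_val_inv, map_one]
    rw [mul_assoc, mul_assoc, ← mul_pow, h1, one_pow, mul_one]
  choose B hBU hyB e he using hloc
  obtain ⟨E, hE, -⟩ := X.sheaf.existsUnique_gluing' B U.1 (fun y => homOfLE (hBU y))
    (fun y hy => Opens.mem_iSup.mpr ⟨⟨y, hy⟩, hyB _⟩) e (fun y z => by
      show resO X (inf_le_left : B y ⊓ B z ≤ B y) (e y) = resO X (inf_le_right : B y ⊓ B z ≤ B z) (e z)
      refine ι_app_injective hO _ ?_
      rw [ι_app_res, ι_app_res, ← he, ← he, map_mul, map_mul, ι_app_res, ι_app_res, resO_resO, resO_resO,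
        resO_resO, resO_resO])
  refine ⟨E, O.toScheme.sheaf.eq_of_locally_eq' (fun y : U.1 => O.ι ⁻¹ᵁ B y) (O.ι ⁻¹ᵁ U.1)
    (fun y => homOfLE (O.ι.preimage_mono (hBU y)))
    (fun z hz => Opens.mem_iSup.mpr ⟨⟨O.ι z, hz⟩, hyB _⟩) _ _ fun y => ?_⟩
  show resO O.toScheme (O.ι.preimage_mono (hBU y)) _ = resO O.toScheme (O.ι.preimage_mono (hBU y)) _
  rw [map_mul, ← ι_app_res (hBU y), ← ι_app_res (hBU y), he, show resO X (hBU y) E = e y from hE y]

end Groth.Agent.FinBirat
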