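import Groth.Agent.FinBirat.Dense
import Mathlib

/-!
Norms over dense opens are integral over the base and span finite modules.
-/

set_option autoImplicit false
set_option backward.isDefEq.respectTransparency false
set_option backward.isDefEq.respectTransparency.types false
set_option linter.style.haveILetI false
set_option linter.unusedSectionVars false

universe u

open CategoryTheory CategoryTheory.Limits AlgebraicGeometry TopologicalSpace Opposite Module
open Groth.Agent.QC (res resO res_res res_self res_smul resO_resO resO_self app_res)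
open Groth.Agent.NormAmple

noncomputable section

namespace Groth.Agent.FinBirat

open Groth.Agent

/-- Finitely many good opens with domain sections detecting zero. -/
theorem exists_pieces {Y' Y : Scheme.{u}} {g : Y' ⟶ Y} [IsNoetherian Y] [IsReduced Y] {D : ℕ}
    (hdense : ∀ O : Y.Opens, (O : Set Y).Nonempty → ∃ W, W ≤ O ∧ (W : Set Y).Nonempty ∧ Good g D W)
    (V : Y.Opens) :
    ∃ (ι : Type u) (_ : Finite ι) (W : ι → Y.Opens) (hW : ∀ i, W i ≤ V),
      (∀ i, Good g D (W i) ∧ IsDomain Γ(Y, W i)) ∧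
      ∀ t : Γ(Y, V), (∀ i, resO Y (hW i) t = 0) → t = 0 := by
  classical
  let ι := {C : irreducibleComponents Y // (C.1 ∩ V).Nonempty}
  haveI : Finite (irreducibleComponents Y) :=
    TopologicalSpace.NoetherianSpace.finite_irreducibleComponents.to_subtype
  choose η hη using fun C : irreducibleComponents Y =>
    QuasiSober.sober C.2.1 (isClosed_of_mem_irreducibleComponents C.1 C.2)
  let O₁ : irreducibleComponents Y → Y.Opens := fun C =>
    ⟨(⋃₀ (irreducibleComponents Y \ {C.1}))ᶜ,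
      (Set.sUnion_eq_biUnion ▸ (TopologicalSpace.NoetherianSpace.finite_irreducibleComponents.diff).isClosed_biUnion
        fun D hD => isClosed_of_mem_irreducibleComponents D hD.1).isOpen_compl⟩
  have hsub : ∀ C, (O₁ C : Set Y) ⊆ C.1 := fun C y hy => by
    by_contra hyC
    exact hy ⟨irreducibleComponent y, ⟨irreducibleComponent_mem_irreducibleComponents y,
      fun h => hyC (h ▸ mem_irreducibleComponent)⟩, mem_irreducibleComponent⟩
  have hηO : ∀ C, η C ∈ O₁ C := fun C ⟨D, ⟨hD, hDC⟩, hηD⟩ => hDC (by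
    have : C.1 ⊆ D := (hη C).def ▸ closure_minimal (Set.singleton_subset_iff.mpr hηD)
      (isClosed_of_mem_irreducibleComponents D hD)
    exact (C.2.2 hD.1 this).antisymm this)
  have hpiece : ∀ C : ι, ∃ W : Y.Opens, W ≤ V ∧ Good g D W ∧ IsDomain Γ(Y, W) ∧ η C.1 ∈ W := by
    intro C
    obtain ⟨y, hyC, hyV⟩ := C.2
    obtain ⟨W, hWle, ⟨w, hw⟩, hG⟩ := hdense (V ⊓ O₁ C.1)
      ⟨η C.1, ((hη C.1).specializes hyC).mem_open V.2 hyV, hηO _⟩
    have hWC : (W : Set Y) ⊆ C.1.1 := fun z hz => hsub _ (hWle hz).2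
    have hηW : η C.1 ∈ W := ((hη C.1).specializes (hWC hw)).mem_open W.2 hw
    refine ⟨W, hWle.trans inf_le_left, hG, ?_, hηW⟩
    haveI : Nonempty W := ⟨⟨_, hηW⟩⟩
    haveI : IsIntegral W.toScheme := by
      haveI : IrreducibleSpace W := by
        have hirr : IsPreirreducible (W : Set Y) := by
          intro u v hu hv ⟨a, haW, hau⟩ ⟨b, hbW, hbv⟩
          exact ⟨η C.1, hηW, ((hη C.1).specializes (hWC haW)).mem_open hu hau,
            ((hη C.1).specializes (hWC hbW)).mem_open hv hbv⟩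
        haveI : PreirreducibleSpace W := Subtype.preirreducibleSpace hirr
        exact ⟨inferInstance⟩
      haveI : IsReduced W.toScheme := isReduced_of_isOpenImmersion W.ι
      exact isIntegral_of_irreducibleSpace_of_isReduced _
    exact MulEquiv.isDomain Γ(W.toScheme, ⊤) W.topIso.symm.commRingCatIsoToRingEquiv.toMulEquiv
  choose W hWV hWG hWD hηW using hpiece
  refine ⟨ι, inferInstance, W, hWV, fun i => ⟨hWG i, hWD i⟩, fun t ht => ?_⟩
  rw [← AlgebraicGeometry.basicOpen_eq_bot_iff]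
  by_contra hne
  obtain ⟨x, hx⟩ : ((Y.basicOpen t : Y.Opens) : Set Y).Nonempty := by
    rwa [Set.nonempty_iff_ne_empty, ← Opens.coe_bot, Ne, SetLike.coe_set_eq]
  let C : irreducibleComponents Y :=
    ⟨irreducibleComponent x, irreducibleComponent_mem_irreducibleComponents x⟩
  let i : ι := ⟨C, x, mem_irreducibleComponent, Y.basicOpen_le t hx⟩
  have hη' : η C ∈ Y.basicOpen t :=
    ((hη C).specializes (mem_irreducibleComponent : x ∈ C.1)).mem_open (Y.basicOpen t).2 hx
  have h1 : η C ∈ Y.basicOpen (resO Y (hWV i) t) := (Y.basicOpen_res t _).ge ⟨hηW i, hη'⟩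
  rw [ht i, Y.basicOpen_zero] at h1
  exact h1

section

variable {X' X : Scheme.{u}} {g : X' ⟶ X} {O : X.Opens} {D : ℕ}

lemma preimage_le (U : X.Opens) : (g ∣_ O) ⁻¹ᵁ (O.ι ⁻¹ᵁ U) ≤ (g ⁻¹ᵁ O).ι ⁻¹ᵁ (g ⁻¹ᵁ U) := by
  intro x hx
  show g.base ((g ⁻¹ᵁ O).ι x) ∈ U
  rw [ι_restrict_apply]
  exact hx

/-- Restriction of sections to the preimage of `O`. -/
def sectsO (U : X.Opens) : Γ(X', g ⁻¹ᵁ U) →+* Γ((g ⁻¹ᵁ O).toScheme, (g ∣_ O) ⁻¹ᵁ (O.ι ⁻¹ᵁ U)) :=
  ((g ⁻¹ᵁ O).ι.appLE (g ⁻¹ᵁ U) ((g ∣_ O) ⁻¹ᵁ (O.ι ⁻¹ᵁ U)) (preimage_le U)).hom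

/-- The norm of a section over the part in `O`. -/
def nU (N : NormMap (g ∣_ O) D) (U : X.Opens) : Γ(X', g ⁻¹ᵁ U) →* Γ(O.toScheme, O.ι ⁻¹ᵁ U) :=
  (N.ν (O.ι ⁻¹ᵁ U)).comp (sectsO U).toMonoidHom

variable (N : NormMap (g ∣_ O) D)

lemma nU_res {W U : X.Opens} (h : W ≤ U) (a : Γ(X', g ⁻¹ᵁ U)) :
    nU N W (resO X' (g.preimage_mono h) a) =
      resO O.toScheme (O.ι.preimage_mono h) (nU N U a) := by
  have e : sectsO (g := g) (O := O) W (resO X' (g.preimage_mono h) a) =
      resO (g ⁻¹ᵁ O).toScheme ((g ∣_ O).preimage_mono (O.ι.preimage_mono h)) (sectsO U a) :=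
    (congr(($(Scheme.Hom.map_appLE (g ⁻¹ᵁ O).ι (preimage_le W) (homOfLE (g.preimage_mono h)).op)).hom a)).trans
      (congr(($(Scheme.Hom.appLE_map (g ⁻¹ᵁ O).ι (preimage_le U)
        (homOfLE ((g ∣_ O).preimage_mono (O.ι.preimage_mono h))).op)).hom a)).symm
  show N.ν _ (sectsO W _) = _
  rw [e]
  exact N.ν_res _ _

lemma sectsO_app (U : X.Opens) (c : Γ(X, U)) :
    sectsO (g := g) (O := O) U ((g.app U).hom c) = ((g ∣_ O).app (O.ι ⁻¹ᵁ U)).hom (O.ι.app U c) := by
  have e1 : g.app U ≫ (g ⁻¹ᵁ O).ι.appLE (g ⁻¹ᵁ U) ((g ∣_ O) ⁻¹ᵁ (O.ι ⁻¹ᵁ U)) (preimage_le U) =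
      O.ι.app U ≫ (g ∣_ O).app (O.ι ⁻¹ᵁ U) := by
    simp only [Scheme.Hom.app_eq_appLE, Scheme.Hom.appLE_comp_appLE]
    simp only [morphismRestrict_ι]
  exact congr(($e1).hom c)

lemma nU_app (U : X.Opens) (c : Γ(X, U)) : nU N U ((g.app U).hom c) = O.ι.app U c ^ D := by
  show N.ν _ (sectsO U _) = _
  rw [sectsO_app]
  exact N.ν_app _ _

variable (hN : ∀ V a, IsNorm (g ∣_ O) D a (N.ν V a))

include hN in
/-- Over a good open with domain sections the norm is a product of characters. -/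
theorem exists_chars (hD : 0 < D) {U : X.Opens} {W : O.toScheme.Opens} (hW : W ≤ O.ι ⁻¹ᵁ U)
    (hG : Good (g ∣_ O) D W) {L : Type u} [Field L] [IsAlgClosed L] (φ : Γ(O.toScheme, W) →+* L)
    (a : Γ(X', g ⁻¹ᵁ U)) :
    ∃ (s : Multiset (Γ(X', g ⁻¹ᵁ U) →+* L)) (e : ℕ), s ≠ 0 ∧ 0 < e ∧
      (∀ χ ∈ s, χ.comp (g.app U).hom = (φ.comp (resO O.toScheme hW)).comp (O.ι.app U).hom) ∧
      φ (resO O.toScheme hW (nU N U a)) = (s.map fun χ => χ a).prod ^ e := by
  classical
  obtain ⟨-, n, hn, hnD, hb⟩ := id hG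
  letI := ((g ∣_ O).app W).hom.toAlgebra
  obtain ⟨b⟩ := hb
  let ρ := (resO (g ⁻¹ᵁ O).toScheme ((g ∣_ O).preimage_mono hW)).comp (sectsO (g := g) (O := O) U)
  obtain ⟨s, hcard, hprod, hs⟩ := exists_roots b φ (ρ a)
  choose χ hχ hχa using hs
  refine ⟨s.attach.map fun l => (χ l.1 l.2).comp ρ, D / n, ?_, Nat.div_pos (Nat.le_of_dvd hD hnD) hn, ?_, ?_⟩
  · intro h
    rw [Multiset.map_eq_zero] at h
    replace h : s = 0 := by rw [← Multiset.attach_map_val s, h, Multiset.map_zero]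
    rw [h, Multiset.card_zero] at hcard
    omega
  · intro ψ hψ
    obtain ⟨l, -, rfl⟩ := Multiset.mem_map.mp hψ
    refine RingHom.ext fun c => ?_
    have e1 : ρ ((g.app U).hom c) =
        ((g ∣_ O).app W).hom (resO O.toScheme hW (O.ι.app U c)) := by
      show resO _ _ (sectsO U _) = _
      rw [sectsO_app]
      exact congr(($((g ∣_ O).naturality (homOfLE hW).op)).hom (O.ι.app U c)).symm
    show χ l.1 l.2 (ρ ((g.app U).hom c)) = _
    rw [e1]
    exact congr($(hχ l.1 l.2) (resO O.toScheme hW (O.ι.app U c)))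
  · show φ (resO O.toScheme hW (N.ν _ (sectsO U a))) = _
    rw [hN _ _ W hW hG]
    show φ (Algebra.norm Γ(O.toScheme, W) (ρ a) ^ (D / finrank Γ(O.toScheme, W) _)) = _
    haveI : Nontrivial Γ(O.toScheme, W) := φ.domain_nontrivial
    rw [finrank_eq_card_basis b, Fintype.card_fin, map_pow, hprod, Multiset.map_map]
    congr 2
    conv_lhs => rw [← Multiset.attach_map_val s]
    refine Multiset.map_congr rfl fun l _ => ?_
    exact (hχa l.1 l.2).symm

variable [IsNoetherian X] [IsReduced X] [IsFinite g]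
  (hdense : ∀ O' : O.toScheme.Opens, (O' : Set O.toScheme).Nonempty →
    ∃ W, W ≤ O' ∧ (W : Set O.toScheme).Nonempty ∧ Good (g ∣_ O) D W)

include hN hdense in
/-- Norms are integral and span a finite module. -/
theorem integral_and_fg (hD : 0 < D) (U : X.affineOpens) :
    (∀ a, (O.ι.app U.1).hom.IsIntegralElem (nU N U.1 a)) ∧
      (letI := (O.ι.app U.1).hom.toAlgebra
       (Submodule.span Γ(X, U.1) (Set.range (nU N U.1))).FG) := by
  classical
  haveI : CompactSpace O.toScheme := isCompact_iff_compactSpace.mp (NoetherianSpace.isCompact (O : Set X))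
  haveI : IsNoetherian O.toScheme := ⟨⟩
  haveI : IsReduced O.toScheme := isReduced_of_isOpenImmersion O.ι
  obtain ⟨ι, hι, W, hW, hWp, hinj⟩ := exists_pieces hdense (O.ι ⁻¹ᵁ U.1)
  haveI := Fintype.ofFinite ι
  haveI := fun i => (hWp i).2
  let L := fun i => AlgebraicClosure (FractionRing Γ(O.toScheme, W i))
  let φ : ∀ i, Γ(O.toScheme, W i) →+* L i := fun i =>
    (algebraMap (FractionRing Γ(O.toScheme, W i)) (L i)).comp (algebraMap _ _)
  have hφ : ∀ i, Function.Injective (φ i) := fun i =>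
    (algebraMap (FractionRing Γ(O.toScheme, W i)) (L i)).injective.comp (IsFractionRing.injective Γ(O.toScheme, W i) (FractionRing Γ(O.toScheme, W i)))
  let Φ : ∀ i, Γ(O.toScheme, O.ι ⁻¹ᵁ U.1) →+* L i := fun i => (φ i).comp (resO O.toScheme (hW i))
  have hΦ : ∀ t, (∀ i, Φ i t = 0) → t = 0 := fun t ht =>
    hinj t fun i => hφ i ((ht i).trans (map_zero _).symm)
  let A := Γ(X, U.1)
  let B := Γ(X', g ⁻¹ᵁ U.1)
  haveI : IsNoetherianRing A := IsLocallyNoetherian.component_noetherian U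
  letI : Algebra A Γ(O.toScheme, O.ι ⁻¹ᵁ U.1) := (O.ι.app U.1).hom.toAlgebra
  letI : Algebra A B := (g.app U.1).hom.toAlgebra
  haveI : Module.Finite A B := IsFinite.finite_app g U.1 U.2
  letI : ∀ i, Algebra A (L i) := fun i => ((Φ i).comp (O.ι.app U.1).hom).toAlgebra
  obtain ⟨G, hG⟩ := (Module.Finite.fg_top : (⊤ : Submodule A B).FG)
  choose P hP hPb using fun β : B => (Algebra.IsIntegral.isIntegral (R := A) β)
  let T : ∀ i, Finset (L i) := fun i => G.biUnion fun β => ((P β).map (algebraMap A (L i))).roots.toFinset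
  have hT : ∀ i, ∀ l ∈ T i, IsIntegral A l := fun i l hl => by
    obtain ⟨β, -, hl⟩ := Finset.mem_biUnion.mp hl
    refine ⟨P β, hP β, ?_⟩
    have := (Polynomial.mem_roots'.mp (Multiset.mem_toFinset.mp hl)).2
    rwa [Polynomial.IsRoot, Polynomial.eval_map] at this
  let C : ∀ i, Subalgebra A (L i) := fun i => Algebra.adjoin A (T i : Set (L i))
  have hC : ∀ i, (Subalgebra.toSubmodule (C i)).FG := fun i =>
    fg_adjoin_of_finite (T i).finite_toSet (hT i)
  have hmem : ∀ i a, Φ i (nU N U.1 a) ∈ C i := fun i a => by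
    obtain ⟨s, e, -, -, hs, heq⟩ := exists_chars N hN hD (hW i) (hWp i).1 (φ i) a
    rw [show Φ i (nU N U.1 a) = φ i (resO O.toScheme (hW i) (nU N U.1 a)) from rfl, heq]
    refine Subalgebra.pow_mem _ (Subalgebra.multiset_prod_mem _ fun l hl => ?_) _
    obtain ⟨χ, hχ, rfl⟩ := Multiset.mem_map.mp hl
    let χ' : B →ₐ[A] L i := { χ with commutes' := fun c => congr($(hs χ hχ) c) }
    have hspan : a ∈ Submodule.span A (G : Set B) := hG ▸ Submodule.mem_top
    show χ' a ∈ C i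
    clear heq hl
    induction hspan using Submodule.span_induction with
    | mem β hβ =>
      refine Algebra.subset_adjoin (Finset.mem_biUnion.mpr ⟨β, hβ, Multiset.mem_toFinset.mpr
        (Polynomial.mem_roots'.mpr ⟨((hP β).map _).ne_zero, ?_⟩)⟩)
      rw [Polynomial.IsRoot, Polynomial.eval_map, ← Polynomial.aeval_def, Polynomial.aeval_algHom_apply,
        Polynomial.aeval_def, hPb β, map_zero]
    | zero => rw [map_zero]; exact zero_mem _
    | add x y _ _ hx hy => rw [map_add]; exact add_mem hx hy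
    | smul c x _ hx => rw [map_smul]; exact Subalgebra.smul_mem _ hx c
  refine ⟨fun a => ?_, ?_⟩
  · choose Q hQ hQ0 using fun i => (IsIntegral.of_mem_of_fg (C i) (hC i) _ (hmem i a) :
      IsIntegral A (Φ i (nU N U.1 a)))
    refine ⟨∏ i, Q i, Polynomial.monic_prod_of_monic _ _ fun i _ => hQ i, hΦ _ fun i => ?_⟩
    rw [Polynomial.hom_eval₂, Polynomial.eval₂_finsetProd]
    exact Finset.prod_eq_zero (Finset.mem_univ i) (hQ0 i)
  · let ψ : Γ(O.toScheme, O.ι ⁻¹ᵁ U.1) →ₗ[A] (∀ i, L i) := LinearMap.pi fun i =>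
      { toFun := Φ i
        map_add' := map_add _
        map_smul' := fun c x => by
          simp only [Algebra.smul_def, RingHom.id_apply, map_mul]
          rfl }
    have hψ : Function.Injective ψ := (injective_iff_map_eq_zero ψ).mpr fun t ht =>
      hΦ t fun i => congrFun ht i
    haveI : ∀ i, Module.Finite A (Subalgebra.toSubmodule (C i)) := fun i => Module.Finite.iff_fg.mpr (hC i)
    let incl : (∀ i, Subalgebra.toSubmodule (C i)) →ₗ[A] (∀ i, L i) :=
      LinearMap.pi fun i => (Subalgebra.toSubmodule (C i)).subtype.comp (LinearMap.proj i)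
    refine Submodule.fg_of_fg_map_injective ψ hψ (Submodule.FG.of_le
      (T := LinearMap.range incl) ?_ ?_)
    · rw [LinearMap.range_eq_map]
      exact Submodule.FG.map _ Module.Finite.fg_top
    · rw [Submodule.map_span, Submodule.span_le]
      rintro _ ⟨_, ⟨a, rfl⟩, rfl⟩
      exact ⟨fun i => ⟨_, hmem i a⟩, rfl⟩

end

end Groth.Agent.FinBirat
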