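import Groth.Agent.CohFinite.Tensor
import Groth.Agent.SymAlg.BundleMap
import Groth.Prelude.Def_ClSub2

/-!
Congruence of sections of a module modulo an ideal sheaf.
-/

set_option autoImplicit false
set_option backward.isDefEq.respectTransparency false
set_option linter.style.haveILetI false

universe u

open CategoryTheory CategoryTheory.Limits AlgebraicGeometry TopologicalSpace Opposite
open Groth.Agent.QC (res resO res_res res_self res_smul resO_resO app_res)

noncomputable section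

namespace Groth.Agent.FinBirat

open Groth.Agent

variable {X Y : Scheme.{u}}

/-- A function as a section of the structure module. -/
def str {U : X.Opens} (c : Γ(X, U)) : Γ(Coh.structureModule X, U) := c

/-- The class of a section modulo an ideal sheaf. -/
def tau (I : X.IdealSheafData) (M : X.Modules) {U : X.Opens} (s : Γ(M, U)) :
    Γ(CohB1.tensorMod (ClSub.quotMod I) M, U) :=
  (CohFinite.tmap (ClSub.toSubscheme I) M).app U (TMul.tm (str (1 : Γ(X, U))) s)

variable (I : X.IdealSheafData) (M : X.Modules)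

lemma tau_res {V U : X.Opens} (h : V ≤ U) (s : Γ(M, U)) :
    tau I M (res M h s) = res _ h (tau I M s) := by
  rw [tau, tau, app_res, TMul.res_tm]
  have : res (Coh.structureModule X) h (str (1 : Γ(X, U))) = str 1 := map_one (resO X h)
  exact congrArg (fun o => (CohFinite.tmap (ClSub.toSubscheme I) M).app V (TMul.tm o (res M h s))) this.symm

lemma tau_sub {U : X.Opens} (s t : Γ(M, U)) : tau I M (s - t) = tau I M s - tau I M t := by
  rw [tau, tau, tau, ← map_sub]
  congr 1
  rw [eq_sub_iff_add_eq, ← TMul.add_tm, sub_add_cancel]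

lemma tau_zero {U : X.Opens} : tau I M (0 : Γ(M, U)) = 0 := by
  have := tau_sub I M (0 : Γ(M, U)) 0
  rwa [sub_zero, sub_self] at this

/-- The coefficient criterion. -/
theorem tau_smul_eq_zero_iff {U : X.Opens} (hU : IsAffineOpen U) {e : Γ(M, U)} (he : TMul.IsGen e)
    (c : Γ(X, U)) : tau I M (c • e) = 0 ↔ c ∈ I.ideal ⟨U, hU⟩ := by
  have h1 : tau I M (c • e) = TMul.tm ((ClSub.toSubscheme I).app U c) e := by
    have h2 : TMul.tm (str (1 : Γ(X, U))) (c • e) = TMul.tm (str c) e := by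
      rw [TMul.tm_smul, ← TMul.smul_tm]
      exact congrArg (fun o => TMul.tm (str o) e) (mul_one c)
    rw [tau]
    erw [h2]
    exact CohFinite.tmap_tm _ _ _ _
  have hinj := (TMul.tm_bijective (M := ClSub.quotMod I) he U le_rfl).1
  have h0 : (TMul.tm (0 : Γ(ClSub.quotMod I, U)) e) = 0 := TMul.zero_tm e
  rw [h1, ← h0]
  have hker : c ∈ I.ideal ⟨U, hU⟩ ↔ I.subschemeι.app U c = 0 :=
    (SetLike.ext_iff.mp (I.ker_subschemeι_app ⟨U, hU⟩).symm c).trans RingHom.mem_ker
  rw [hker]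
  refine ⟨fun h => ?_, fun h => congrArg (fun o => TMul.tm o e) h⟩
  refine @hinj ((ClSub.toSubscheme I).app U c) 0 ?_
  simpa only [res_self] using h

/-- Congruence is local. -/
theorem tau_eq_zero_of_locally {U : X.Opens} (s : Γ(M, U))
    (h : ∀ x ∈ U, ∃ (V : X.Opens) (hV : V ≤ U), x ∈ V ∧ tau I M (res M hV s) = 0) : tau I M s = 0 :=
  QC.section_eq_of_locally fun x hx => by
    obtain ⟨V, hV, hxV, h0⟩ := h x hx
    exact ⟨V, hV, hxV, by rw [← tau_res, h0, map_zero]⟩

/-- Congruent sections stay congruent along a compatible morphism. -/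
theorem tau_map (hM : PicF.IsInvertible M) (f : Y ⟶ X) (J : Y.IdealSheafData) (hIJ : I.comap f ≤ J)
    {N : Y.Modules} (θ : M ⟶ (Scheme.Modules.pushforward f).obj N)
    (hθ : ∀ (U : X.Opens) (e : Γ(M, U)), TMul.IsGen e →
      TMul.IsGen (X := Y) (N := N) (U := f ⁻¹ᵁ U) (θ.app U e))
    {U : X.Opens} (s : Γ(M, U)) (h : tau I M s = 0) :
    tau (X := Y) J N (U := f ⁻¹ᵁ U) (θ.app U s) = 0 := by
  refine tau_eq_zero_of_locally J N _ fun y hy => ?_
  obtain ⟨V₀, e₀, hxV₀, he₀⟩ := TMul.exists_isGen hM (f.base y)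
  obtain ⟨V, hV, hxV, hVle⟩ := exists_isAffineOpen_mem_and_subset (x := f.base y) (U := V₀ ⊓ U) ⟨hxV₀, hy⟩
  have hVU : V ≤ U := hVle.trans inf_le_right
  have he := he₀.res (show V ≤ V₀ from hVle.trans inf_le_left)
  obtain ⟨c, hc⟩ := (he V le_rfl).2 (res M hVU s)
  simp only [res_self] at hc
  have hcI : c ∈ I.ideal ⟨V, hV⟩ := (tau_smul_eq_zero_iff I M hV he c).mp (by rw [hc, tau_res, h, map_zero])
  obtain ⟨W, hW, hyW, hWle⟩ := exists_isAffineOpen_mem_and_subset (x := y) (U := f ⁻¹ᵁ V) hxV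
  refine ⟨W, hWle.trans (f.preimage_mono hVU), hyW, ?_⟩
  have h1 : (show Γ(N, f ⁻¹ᵁ V) from θ.app V (res M hVU s)) = (f.app V).hom c •
      (show Γ(N, f ⁻¹ᵁ V) from θ.app V (res M (hVle.trans inf_le_left) e₀)) := by
    rw [← hc, Scheme.Modules.Hom.app_smul]
    rfl
  have h2 : res N (show W ≤ f ⁻¹ᵁ U from hWle.trans (f.preimage_mono hVU)) (θ.app U s) =
      res N hWle (θ.app V (res M hVU s)) := by
    rw [← app_res]
    exact (res_res N hWle (f.preimage_mono hVU) _).symm
  have hgen : TMul.IsGen (X := Y) (N := N) (U := W)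
      (res N hWle (θ.app V (res M (hVle.trans inf_le_left) e₀))) := (hθ _ _ he).res hWle
  have h3 := (congrArg (res N hWle) h1).trans (res_smul N hWle _ _)
  erw [h2, h3]
  refine (tau_smul_eq_zero_iff J N hW hgen _).mpr (hIJ ⟨W, hW⟩ ?_)
  have hle : (I.ideal ⟨V, hV⟩).map (f.appLE V W hWle).hom ≤ (I.comap f).ideal ⟨W, hW⟩ := by
    rw [Ideal.map_le_iff_le_comap]
    intro d hd
    have hd0 : (I.comap f).subschemeι.app W (f.appLE V W hWle d) = 0 := by
      have e1 : ((I.comap f).subschemeι ≫ f) = ((I.comapIso f).hom ≫ pullback.snd _ _) ≫ I.subschemeι := by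
        rw [Category.assoc, ← pullback.condition, ← Category.assoc, Scheme.IdealSheafData.comapIso_hom_fst]
      have hle' : (I.comap f).subschemeι ⁻¹ᵁ W ≤ ((I.comap f).subschemeι ≫ f) ⁻¹ᵁ V :=
        fun z hz => hWle hz
      have e2 : f.appLE V W hWle ≫ (I.comap f).subschemeι.app W =
          ((I.comap f).subschemeι ≫ f).appLE V ((I.comap f).subschemeι ⁻¹ᵁ W) hle' := by
        rw [Scheme.Hom.app_eq_appLE, Scheme.Hom.appLE_comp_appLE]
      refine (congr(($e2).hom d)).trans ?_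
      have hd1 : I.subschemeι.app V d = 0 :=
        RingHom.mem_ker.mp ((I.ker_subschemeι_app ⟨V, hV⟩).ge hd)
      let r := (I.comapIso f).hom ≫ pullback.snd f I.subschemeι
      have hle2 : (I.comap f).subschemeι ⁻¹ᵁ W ≤ r ⁻¹ᵁ (I.subschemeι ⁻¹ᵁ V) := fun z hz => by
        show (r ≫ I.subschemeι).base z ∈ V
        rw [← e1]
        exact hle' hz
      have e3 : ((I.comap f).subschemeι ≫ f).appLE V ((I.comap f).subschemeι ⁻¹ᵁ W) hle' =
          I.subschemeι.app V ≫ r.appLE (I.subschemeι ⁻¹ᵁ V) ((I.comap f).subschemeι ⁻¹ᵁ W) hle2 := by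
        rw [Scheme.Hom.app_eq_appLE, Scheme.Hom.appLE_comp_appLE]
        simp only [r, e1]
      refine (congr(($e3).hom d)).trans ?_
      show r.appLE _ _ hle2 (I.subschemeι.app V d) = 0
      rw [hd1, map_zero]
    exact ((I.comap f).ker_subschemeι_app ⟨W, hW⟩).le (RingHom.mem_ker.mpr hd0)
  refine hle ?_
  have : resO Y hWle ((f.app V).hom c) = (f.appLE V W hWle).hom c := rfl
  rw [this]
  exact Ideal.mem_map_of_mem _ hcI

/-- An ideal sheaf without zeros on an affine open is the unit ideal there. -/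
theorem ideal_eq_top (J : X.IdealSheafData) (U : X.affineOpens)
    (h : ∀ x ∈ U.1, x ∉ (J.support : Set X)) : J.ideal U = ⊤ := by
  by_contra hne
  obtain ⟨m, hm, hJm⟩ := Ideal.exists_le_maximal _ hne
  let p : PrimeSpectrum Γ(X, U.1) := ⟨m, hm.isPrime⟩
  have hmem : U.2.fromSpec p ∈ U.1 := U.2.range_fromSpec.le (Set.mem_range_self p)
  refine h _ hmem ((J.mem_support_iff_of_mem (U := U) hmem).mpr ((Scheme.mem_zeroLocus_iff _ _ _).mpr fun c hc hb => ?_))
  have h2 : p ∈ U.2.fromSpec ⁻¹ᵁ X.basicOpen c := hb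
  rw [U.2.fromSpec_preimage_basicOpen] at h2
  exact h2 (hJm hc)

/-- Off the support everything is congruent. -/
theorem tau_eq_zero_of_disjoint (hM : PicF.IsInvertible M) {U : X.Opens} (s : Γ(M, U))
    (h : ∀ x ∈ U, x ∉ (I.support : Set X)) : tau I M s = 0 := by
  refine tau_eq_zero_of_locally I M s fun x hx => ?_
  obtain ⟨V₀, e₀, hxV₀, he₀⟩ := TMul.exists_isGen hM x
  obtain ⟨V, hV, hxV, hVle⟩ := exists_isAffineOpen_mem_and_subset (x := x) (U := V₀ ⊓ U) ⟨hxV₀, hx⟩
  refine ⟨V, hVle.trans inf_le_right, hxV, ?_⟩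
  have he := he₀.res (show V ≤ V₀ from hVle.trans inf_le_left)
  obtain ⟨c, hc⟩ := (he V le_rfl).2 (res M (hVle.trans inf_le_right) s)
  simp only [res_self] at hc
  rw [← hc, tau_smul_eq_zero_iff I M hV he, ideal_eq_top I ⟨V, hV⟩ fun z hz => h z (hVle hz).2]
  trivial

end Groth.Agent.FinBirat
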