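import Groth.Agent.FinBirat.Bound
import Groth.Agent.FinBirat.Tau
import Groth.Agent.FpqcDescent.IdealGlue
import Groth.Agent.NormAmple.Descend

/-!
Sections congruent modulo a conductor descend along a finite birational morphism.
-/

set_option autoImplicit false
set_option backward.isDefEq.respectTransparency false
set_option backward.isDefEq.respectTransparency.types false
set_option linter.style.haveILetI false
set_option linter.unusedSectionVars false

universe u

open CategoryTheory CategoryTheory.Limits AlgebraicGeometry TopologicalSpace Opposite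
open Groth.Agent.QC (res resO res_res res_self res_smul resO_resO resO_self app_res)

noncomputable section

namespace Groth.Agent.FinBirat

open Groth.Agent

variable {Z X : Scheme.{u}} {h : Z ⟶ X}

lemma app_res' {W U : X.Opens} (hle : W ≤ U) (c : Γ(X, U)) :
    (h.app W).hom (resO X hle c) = resO Z (h.preimage_mono hle) ((h.app U).hom c) :=
  congr(($(h.naturality (homOfLE hle).op)).hom c)

lemma app_injective [IsReduced X] [Surjective h] (U : X.Opens) : Function.Injective (h.app U) := by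
  rw [injective_iff_map_eq_zero]
  intro c hc
  rw [← AlgebraicGeometry.basicOpen_eq_bot_iff]
  by_contra hne
  obtain ⟨y, hy⟩ := Set.nonempty_iff_ne_empty.mpr fun he => hne (Opens.ext he)
  obtain ⟨z, rfl⟩ := h.surjective y
  have : z ∈ h ⁻¹ᵁ X.basicOpen c := hy
  rw [Scheme.preimage_basicOpen, hc, Scheme.basicOpen_zero] at this
  exact this

lemma app_bijective_of_le {O : X.Opens} [IsIso (h ∣_ O)] {U : X.Opens} (hU : U ≤ O) :
    Function.Bijective (h.app U) := by
  have e : O.ι ''ᵁ (O.ι ⁻¹ᵁ U) = U := by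
    rw [Scheme.Hom.image_preimage_eq_opensRange_inf, Scheme.Opens.opensRange_ι, inf_eq_right.mpr hU]
  haveI : IsIso ((h ∣_ O).app (O.ι ⁻¹ᵁ U)) := inferInstance
  haveI : IsIso (h.app (O.ι ''ᵁ (O.ι ⁻¹ᵁ U))) := by
    have h1 := morphismRestrict_app h O (O.ι ⁻¹ᵁ U)
    exact IsIso.of_isIso_fac_right h1.symm
  rw [← e]
  exact ConcreteCategory.bijective_of_isIso _

variable (h) in
/-- A power of the ideal of the complement is a conductor. -/
theorem exists_conductor [IsNoetherian X] [IsReduced X] [IsReduced Z] [IsFinite h] [Surjective h] (O : X.Opens)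
    [IsIso (h ∣_ O)] :
    ∃ m, 0 < m ∧ ∀ (U : X.affineOpens) (b : Γ(Z, h ⁻¹ᵁ U.1)), ∀ c ∈ ((Jc O) ^ m).ideal U,
      ∃ e, (h.app U.1).hom e = (h.app U.1).hom c * b := by
  classical
  have hat : ∀ U : X.affineOpens, ∃ m, ∀ b, ∀ c ∈ (Jc O).ideal U ^ m,
      ∃ e, (h.app U.1).hom e = (h.app U.1).hom c * b := by
    intro U
    letI := (h.app U.1).hom.toAlgebra
    haveI : IsNoetherianRing Γ(X, U.1) := IsLocallyNoetherian.component_noetherian U
    haveI : Module.Finite Γ(X, U.1) Γ(Z, h ⁻¹ᵁ U.1) := IsFinite.finite_app h U.1 U.2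
    obtain ⟨G, hG⟩ := (Module.Finite.fg_top : (⊤ : Submodule Γ(X, U.1) Γ(Z, h ⁻¹ᵁ U.1)).FG)
    let K : Ideal Γ(X, U.1) :=
      { carrier := {c | ∀ y ∈ G, ∃ e, (h.app U.1).hom e = (h.app U.1).hom c * y}
        add_mem' := fun {c d} hc hd y hy => by
          obtain ⟨e, he⟩ := hc y hy
          obtain ⟨e', he'⟩ := hd y hy
          exact ⟨e + e', by rw [map_add, map_add, add_mul, he, he']⟩
        zero_mem' := fun y _ => ⟨0, by rw [map_zero, zero_mul]⟩
        smul_mem' := fun r c hc y hy => by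
          obtain ⟨e, he⟩ := hc y hy
          exact ⟨r * e, by rw [smul_eq_mul, map_mul, map_mul, mul_assoc, he]⟩ }
    have key : ∀ c ∈ (Jc O).ideal U, ∀ y : Γ(Z, h ⁻¹ᵁ U.1),
        ∃ k e, (h.app U.1).hom e = (h.app U.1).hom (c ^ k) * y := by
      intro c hc y
      let Dc := X.basicOpen c
      obtain ⟨f, hf⟩ := (app_bijective_of_le (h := h) (basicOpen_le_of_mem hc)).2
        (resO Z (h.preimage_mono (X.basicOpen_le c)) y)
      letI : Algebra Γ(X, U.1) Γ(X, Dc) := (resO X (X.basicOpen_le c)).toAlgebra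
      haveI : IsLocalization.Away c Γ(X, Dc) := U.2.isLocalization_basicOpen c
      obtain ⟨k, e, he⟩ := IsLocalization.Away.surj c f
      refine ⟨k + 1, c * e, ?_⟩
      have h1 := congrArg (h.app Dc).hom he
      rw [map_mul, map_pow, show (h.app Dc).hom f = _ from hf,
        show algebraMap _ _ c = resO X (X.basicOpen_le c) c from rfl,
        show algebraMap _ _ e = resO X (X.basicOpen_le c) e from rfl, app_res', app_res'] at h1
      rw [pow_succ', map_mul, map_mul, mul_assoc, ← sub_eq_zero, ← mul_sub,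
        ← AlgebraicGeometry.basicOpen_eq_bot_iff]
      rw [Scheme.basicOpen_mul, ← Scheme.preimage_basicOpen, eq_bot_iff]
      rintro z ⟨hzc, hz⟩
      have h2 : z ∈ Z.basicOpen (resO Z (h.preimage_mono (X.basicOpen_le c))
          ((h.app U.1).hom e - (h.app U.1).hom (c ^ k) * y)) :=
        (Z.basicOpen_res _ _).ge ⟨hzc, hz⟩
      rw [map_sub, map_mul, map_pow, map_pow, ← h1, mul_comm, sub_self, Scheme.basicOpen_zero] at h2
      exact h2
    have hrad : (Jc O).ideal U ≤ K.radical := fun c hc => by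
      choose k e he using key c hc
      refine ⟨G.sup k, fun y hy => ⟨c ^ (G.sup k - k y) * e y, ?_⟩⟩
      rw [map_mul, he y, ← mul_assoc, ← map_mul, ← pow_add, Nat.sub_add_cancel (Finset.le_sup hy)]
    obtain ⟨m, hm⟩ := Ideal.exists_pow_le_of_le_radical_of_fg hrad (IsNoetherian.noetherian _)
    refine ⟨m, fun b c hc => ?_⟩
    have hb : b ∈ Submodule.span Γ(X, U.1) (G : Set Γ(Z, h ⁻¹ᵁ U.1)) := hG ▸ Submodule.mem_top
    induction hb using Submodule.span_induction with
    | mem t ht => exact hm hc t ht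
    | zero => exact ⟨0, by rw [map_zero, mul_zero]⟩
    | add x y _ _ hx hy =>
      obtain ⟨e, he⟩ := hx
      obtain ⟨e', he'⟩ := hy
      exact ⟨e + e', by rw [mul_add, map_add, he, he']⟩
    | smul r x _ hx =>
      obtain ⟨e, he⟩ := hx
      refine ⟨r * e, ?_⟩
      rw [map_mul, he, Algebra.smul_def]
      exact mul_left_comm _ _ _
  choose m hm using hat
  obtain ⟨t, ht⟩ := isCompact_univ.elim_finite_subcover (fun V : X.affineOpens => (V.1 : Set X))
    (fun V => V.1.2) (fun x _ => by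
      obtain ⟨V, hV, hxV, -⟩ := exists_isAffineOpen_mem_and_subset (x := x) (U := ⊤) trivial
      exact Set.mem_iUnion.mpr ⟨⟨V, hV⟩, hxV⟩)
  refine ⟨t.sup m + 1, Nat.succ_pos _, fun U b c hc => ?_⟩
  have hloc : ∀ y : U.1, ∃ (B : X.Opens) (hB : B ≤ U.1), y.1 ∈ B ∧
      ∃ e, (h.app B).hom e = (h.app B).hom (resO X hB c) * resO Z (h.preimage_mono hB) b := by
    intro y
    obtain ⟨V, hVt, hyV⟩ := Set.mem_iUnion₂.mp (ht (Set.mem_univ y.1))
    obtain ⟨r, r', er, hyr⟩ := exists_basicOpen_le_affine_inter V.2 U.2 y.1 ⟨hyV, y.2⟩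
    let B := X.basicOpen r
    have hBV : B ≤ V.1 := X.basicOpen_le r
    have hBU : B ≤ U.1 := er.trans_le (X.basicOpen_le r')
    let B' : X.affineOpens := ⟨B, V.2.basicOpen r⟩
    refine ⟨B, hBU, hyr, ?_⟩
    letI : Algebra Γ(Z, h ⁻¹ᵁ V.1) Γ(Z, h ⁻¹ᵁ B) := (resO Z (h.preimage_mono hBV)).toAlgebra
    haveI : IsLocalization.Away ((h.app V.1).hom r) Γ(Z, h ⁻¹ᵁ B) :=
      (V.2.preimage h).isLocalization_of_eq_basicOpen _ (homOfLE (h.preimage_mono hBV)) (h.preimage_basicOpen r)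
    obtain ⟨k, bV, hbV⟩ := IsLocalization.Away.surj ((h.app V.1).hom r) (resO Z (h.preimage_mono hBU) b)
    rw [show algebraMap _ _ ((h.app V.1).hom r) = (h.app B).hom (resO X hBV r) from (app_res' hBV r).symm,
      show algebraMap _ _ bV = resO Z (h.preimage_mono hBV) bV from rfl] at hbV
    have hr : IsUnit (resO X hBV r : Γ(X, B)) := RingedSpace.isUnit_res_basicOpen _ r
    let K : Ideal Γ(X, B) :=
      { carrier := {c | ∃ e, (h.app B).hom e = (h.app B).hom c * resO Z (h.preimage_mono hBV) bV}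
        add_mem' := fun {c d} ⟨e, he⟩ ⟨e', he'⟩ => ⟨e + e', by rw [map_add, map_add, add_mul, he, he']⟩
        zero_mem' := ⟨0, by rw [map_zero, zero_mul]⟩
        smul_mem' := fun s c ⟨e, he⟩ => ⟨s * e, by rw [smul_eq_mul, map_mul, map_mul, mul_assoc, he]⟩ }
    have hcB : resO X hBU c ∈ ((Jc O) ^ (t.sup m + 1)).ideal B' := by
      rw [← ((Jc O) ^ (t.sup m + 1)).map_ideal (U := B') (V := U) hBU]
      exact Ideal.mem_map_of_mem _ hc
    have hK : ((Jc O) ^ (t.sup m + 1)).ideal B' ≤ K := by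
      rw [← ((Jc O) ^ (t.sup m + 1)).map_ideal (U := B') (V := V) hBV, Ideal.map_le_iff_le_comap]
      intro d hd
      rw [Scheme.IdealSheafData.ideal_pow, Pi.pow_apply] at hd
      obtain ⟨e, he⟩ := hm V bV d (Ideal.pow_le_pow_right ((Finset.le_sup hVt).trans (Nat.le_succ _)) hd)
      refine ⟨resO X hBV e, ?_⟩
      show (h.app B).hom _ = (h.app B).hom (resO X hBV d) * _
      rw [app_res', app_res', ← map_mul, he]
    obtain ⟨e, he⟩ := hK hcB
    refine ⟨e * ((hr.unit⁻¹ : Γ(X, B)ˣ) : Γ(X, B)) ^ k, ?_⟩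
    rw [map_mul, he, ← hbV, map_pow]
    have h1 : (h.app B).hom (resO X hBV r) * (h.app B).hom ((hr.unit⁻¹ : Γ(X, B)ˣ) : Γ(X, B)) = 1 := by
      rw [← map_mul, IsUnit.mul_val_inv, map_one]
    rw [mul_assoc, mul_assoc, ← mul_pow, h1, one_pow, mul_one]
  choose B hBU hyB e he using hloc
  obtain ⟨E, hE, -⟩ := X.sheaf.existsUnique_gluing' B U.1 (fun y => homOfLE (hBU y))
    (fun y hy => Opens.mem_iSup.mpr ⟨⟨y, hy⟩, hyB _⟩) e (fun y z => by
      show resO X (inf_le_left : B y ⊓ B z ≤ B y) (e y) = resO X (inf_le_right : B y ⊓ B z ≤ B z) (e z)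
      refine app_injective (h := h) _ ?_
      show (h.app _).hom _ = (h.app _).hom _
      rw [app_res', app_res', he, he, map_mul, map_mul, app_res', app_res', resO_resO, resO_resO,
        resO_resO, resO_resO])
  refine ⟨E, Z.sheaf.eq_of_locally_eq' (fun y : U.1 => h ⁻¹ᵁ B y) (h ⁻¹ᵁ U.1)
    (fun y => homOfLE (h.preimage_mono (hBU y)))
    (fun z hz => Opens.mem_iSup.mpr ⟨⟨h.base z, hz⟩, hyB _⟩) _ _ fun y => ?_⟩
  show resO Z (h.preimage_mono (hBU y)) _ = resO Z (h.preimage_mono (hBU y)) _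
  rw [map_mul, ← app_res' (hBU y), ← app_res' (hBU y), show resO X (hBU y) E = e y from hE y, he]

/-- Sections congruent to pulled back ones modulo a conductor are pulled back. -/
theorem exists_descend [IsReduced X] [IsAffineHom h] [Surjective h] {K : X.Modules} (hK : PicF.IsInvertible K)
    (I : X.IdealSheafData)
    (hI : ∀ (U : X.affineOpens) (b : Γ(Z, h ⁻¹ᵁ U.1)), ∀ c ∈ I.ideal U,
      ∃ e, (h.app U.1).hom e = (h.app U.1).hom c * b)
    (s : Coh.structureModule Z ⟶ (Scheme.Modules.pullback h).obj K)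
    (hs : ∀ x : X, ∃ (U : X.affineOpens) (_ : x ∈ U.1) (e : Γ(K, U.1)) (_ : TMul.IsGen e) (a₀ : Γ(X, U.1)),
      tau (X := Z) (I.comap h) ((Scheme.Modules.pullback h).obj K) (U := h ⁻¹ᵁ U.1)
        (TMul.val s (h ⁻¹ᵁ U.1) -
          (h.app U.1).hom a₀ • (show Γ((Scheme.Modules.pullback h).obj K, h ⁻¹ᵁ U.1) from
            (SymAlg.pullθ h (Iso.refl ((Scheme.Modules.pullback h).obj K))).app U.1 e)) = 0) :
    ∃ t : Coh.structureModule X ⟶ K, CohB1.genLocus _ s = h ⁻¹ᵁ CohB1.genLocus K t := by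
  classical
  let Kh := (Scheme.Modules.pullback h).obj K
  have hKh : PicF.IsInvertible Kh := PicLoc.isInvertible_pullback h hK
  let θ : K ⟶ (Scheme.Modules.pushforward h).obj Kh := SymAlg.pullθ h (Iso.refl _)
  have hθ : ∀ (V : X.Opens) (e : Γ(K, V)), TMul.IsGen e →
      TMul.IsGen (X := Z) (N := Kh) (U := h ⁻¹ᵁ V) (θ.app V e) := fun V e he =>
    SymAlg.isGen_pullθ h (Iso.refl _) hKh (TMul.isQCoh_of_isInvertible hK) e he
  choose U hxU e he a₀ ha₀ using hs
  have hcoef : ∀ x, ∃ a : Γ(X, (U x).1),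
      TMul.val s (h ⁻¹ᵁ (U x).1) = (h.app (U x).1).hom a • (show Γ(Kh, h ⁻¹ᵁ (U x).1) from θ.app (U x).1 (e x)) := by
    intro x
    obtain ⟨b, hb⟩ := ((hθ _ _ (he x)) (h ⁻¹ᵁ (U x).1) le_rfl).2 (TMul.val s (h ⁻¹ᵁ (U x).1))
    simp only [res_self] at hb
    have hmem : b - (h.app (U x).1).hom (a₀ x) ∈ (I.comap h).ideal ⟨_, (U x).2.preimage h⟩ := by
      refine (tau_smul_eq_zero_iff (I.comap h) Kh ((U x).2.preimage h) (hθ _ _ (he x)) _).mp ?_
      rw [sub_smul, hb]
      exact ha₀ x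
    rw [Groth.Agent.FpqcDescent.ideal_comap_appLE I h (U x) ⟨_, (U x).2.preimage h⟩ le_rfl,
      Scheme.Hom.appLE_eq_app] at hmem
    let S : Ideal Γ(Z, h ⁻¹ᵁ (U x).1) :=
      { carrier := {z | ∀ b, ∃ a, (h.app (U x).1).hom a = b * z}
        add_mem' := fun {z z'} hz hz' b => by
          obtain ⟨a, ha⟩ := hz b
          obtain ⟨a', ha'⟩ := hz' b
          exact ⟨a + a', by rw [map_add, ha, ha', mul_add]⟩
        zero_mem' := fun b => ⟨0, by rw [map_zero, mul_zero]⟩
        smul_mem' := fun r z hz b => by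
          obtain ⟨a, ha⟩ := hz (b * r)
          exact ⟨a, by rw [ha, smul_eq_mul, mul_assoc]⟩ }
    have hle : (I.ideal (U x)).map (h.app (U x).1).hom ≤ S := Ideal.map_le_iff_le_comap.mpr fun c hc b => by
      obtain ⟨a, ha⟩ := hI (U x) b c hc
      exact ⟨a, ha.trans (mul_comm _ _)⟩
    obtain ⟨a, ha⟩ := hle hmem 1
    refine ⟨a₀ x + a, ?_⟩
    rw [map_add, ha, one_mul, add_sub_cancel]
    exact hb.symm
  choose a ha using hcoef
  have hinj : ∀ (V : X.Opens) (u v : Γ(K, V)), θ.app V u = θ.app V v → u = v := by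
    intro V u v huv
    refine QC.section_eq_of_locally fun x hx => ?_
    have hV : V ⊓ (U x).1 ≤ (U x).1 := inf_le_right
    have hg := (he x).res hV
    obtain ⟨c, hc⟩ := (hg (V ⊓ (U x).1) le_rfl).2 (res K inf_le_left u)
    obtain ⟨d, hd⟩ := (hg (V ⊓ (U x).1) le_rfl).2 (res K inf_le_left v)
    simp only [res_self] at hc hd
    refine ⟨V ⊓ (U x).1, inf_le_left, ⟨hx, hxU x⟩, ?_⟩
    have h1 := congrArg (res ((Scheme.Modules.pushforward h).obj Kh) (inf_le_left : V ⊓ (U x).1 ≤ V)) huv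
    rw [app_res, app_res, ← hc, ← hd, Scheme.Modules.Hom.app_smul, Scheme.Modules.Hom.app_smul] at h1
    rw [← hc, ← hd]
    congr 1
    exact app_injective (h := h) _ (((hθ _ _ hg) (h ⁻¹ᵁ (V ⊓ (U x).1)) le_rfl).1 (by
      simp only [res_self]; exact h1))
  have hθs : ∀ (x : X) (V : X.Opens) (hV : V ≤ (U x).1),
      (show Γ(Kh, h ⁻¹ᵁ V) from θ.app V (res K hV (a x • e x))) = TMul.val s (h ⁻¹ᵁ V) := by
    intro x V hV
    rw [← TMul.res_val s (h.preimage_mono hV), ha x, ← app_res, Scheme.Modules.Hom.app_smul]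
    rfl
  obtain ⟨T, hT, -⟩ := TopCat.Sheaf.existsUnique_gluing' (QC.abSheaf K) (fun x => (U x).1) ⊤
    (fun x => homOfLE le_top) (fun x _ => Opens.mem_iSup.mpr ⟨x, hxU x⟩) (fun x => a x • e x) (fun x y => by
      show res K (inf_le_left : (U x).1 ⊓ (U y).1 ≤ _) _ = res K (inf_le_right : (U x).1 ⊓ (U y).1 ≤ _) _
      exact hinj _ _ _ ((hθs x _ inf_le_left).trans (hθs y _ inf_le_right).symm))
  refine ⟨TMul.homOf T, Opens.ext (Set.ext fun z => ?_)⟩
  let x := h.base z
  have hval : TMul.val (TMul.homOf T) (U x).1 = a x • e x := by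
    rw [TMul.val_homOf]
    exact hT x
  have h1 := TMul.genLocus_inf (TMul.homOf T) (he x) hval
  have h2 := TMul.genLocus_inf s (hθ _ _ (he x)) (ha x)
  have hz : z ∈ h ⁻¹ᵁ (U x).1 := hxU x
  constructor
  · intro hzs
    have h3 := h2.le ⟨hz, hzs⟩
    rw [← Scheme.preimage_basicOpen] at h3
    exact (h1.ge h3).2
  · intro hzt
    have h3 : z ∈ h ⁻¹ᵁ X.basicOpen (a x) := h1.le ⟨hxU x, hzt⟩
    rw [Scheme.preimage_basicOpen] at h3
    exact (h2.ge h3).2

end Groth.Agent.FinBirat
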