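import Groth.Agent.FinBirat.Tau
import Groth.Agent.TMul.AmpleBasis
import Groth.Agent.TMul.Pullback
import Mathlib.AlgebraicGeometry.Morphisms.Immersion

/-!
Helpers on congruences, powers and immersions.
-/

set_option autoImplicit false
set_option backward.isDefEq.respectTransparency false
set_option linter.style.haveILetI false
set_option linter.unusedSectionVars false

universe u

open CategoryTheory CategoryTheory.Limits AlgebraicGeometry TopologicalSpace Opposite
open Groth.Agent.QC (res resO res_res res_self res_smul resO_resO app_res)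

noncomputable section

namespace Groth.Agent.FinBirat

open Groth.Agent

variable {X Y : Scheme.{u}}

lemma isGen_app_iso {M N : X.Modules} (φ : M ≅ N) {U : X.Opens} {e : Γ(M, U)} (he : TMul.IsGen e) :
    TMul.IsGen (φ.hom.app U e) := fun V hV => by
  have h1 : ∀ W : X.Opens, Function.Bijective (φ.hom.app W) := fun W =>
    Function.bijective_iff_has_inverse.mpr ⟨φ.inv.app W,
      fun a => congr($(φ.hom_inv_id).app W a), fun a => congr($(φ.inv_hom_id).app W a)⟩
  have : (fun c : Γ(X, V) => c • res N hV (φ.hom.app U e)) = φ.hom.app V ∘ (fun c => c • res M hV e) := by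
    funext c
    show _ = φ.hom.app V (c • res M hV e)
    rw [Scheme.Modules.Hom.app_smul, app_res]
  rw [this]
  exact (h1 V).comp (he V hV)

/-- Congruence is preserved by isomorphisms. -/
theorem tau_app_iso (I : X.IdealSheafData) {M N : X.Modules} (hM : PicF.IsInvertible M) (φ : M ≅ N)
    {U : X.Opens} (s : Γ(M, U)) (h : tau I M s = 0) : tau I N (φ.hom.app U s) = 0 := by
  refine tau_eq_zero_of_locally I N _ fun x hx => ?_
  obtain ⟨V₀, e₀, hxV₀, he₀⟩ := TMul.exists_isGen hM x
  obtain ⟨V, hV, hxV, hVle⟩ := exists_isAffineOpen_mem_and_subset (x := x) (U := V₀ ⊓ U) ⟨hxV₀, hx⟩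
  have hVU : V ≤ U := hVle.trans inf_le_right
  have he := he₀.res (show V ≤ V₀ from hVle.trans inf_le_left)
  obtain ⟨c, hc⟩ := (he V le_rfl).2 (res M hVU s)
  simp only [res_self] at hc
  refine ⟨V, hVU, hxV, ?_⟩
  rw [app_res, ← hc, Scheme.Modules.Hom.app_smul, tau_smul_eq_zero_iff I N hV (isGen_app_iso φ he),
    ← tau_smul_eq_zero_iff I M hV he, hc, tau_res, h, map_zero]

/-- A compatible morphism pulls back the locus where a section generates. -/
theorem genLocus_theta (f : Y ⟶ X) {M : X.Modules} {N : Y.Modules} (hM : PicF.IsInvertible M)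
    (θ : M ⟶ (Scheme.Modules.pushforward f).obj N)
    (hθ : ∀ (U : X.Opens) (e : Γ(M, U)), TMul.IsGen e →
      TMul.IsGen (X := Y) (N := N) (U := f ⁻¹ᵁ U) (θ.app U e))
    (s : Γ(M, ⊤)) :
    CohB1.genLocus N (TMul.homOf (show Γ(N, ⊤) from θ.app ⊤ s)) =
      f ⁻¹ᵁ CohB1.genLocus M (TMul.homOf s) := by
  ext y
  obtain ⟨U, e, hxU, he⟩ := TMul.exists_isGen hM (f.base y)
  obtain ⟨c, hc⟩ := (he U le_rfl).2 (res M le_top s)
  simp only [res_self] at hc
  have hval : TMul.val (TMul.homOf s) U = c • e := by rw [TMul.val_homOf, hc]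
  have hval' : TMul.val (TMul.homOf (show Γ(N, ⊤) from θ.app ⊤ s)) (f ⁻¹ᵁ U) =
      (f.app U).hom c • (show Γ(N, f ⁻¹ᵁ U) from θ.app U e) := by
    rw [TMul.val_homOf]
    have h1 : (show Γ(N, f ⁻¹ᵁ U) from θ.app U (c • e)) = res N le_top (show Γ(N, ⊤) from θ.app ⊤ s) := by
      rw [hc, ← app_res]
      rfl
    rw [← h1, Scheme.Modules.Hom.app_smul]
    rfl
  have h1 := TMul.genLocus_inf (TMul.homOf s) he hval
  have h2 := TMul.genLocus_inf (TMul.homOf (show Γ(N, ⊤) from θ.app ⊤ s)) (hθ U e he) hval'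
  have hy : y ∈ f ⁻¹ᵁ U := hxU
  constructor
  · intro hys
    have h3 := h2.le ⟨hy, hys⟩
    rw [← Scheme.preimage_basicOpen] at h3
    exact (h1.ge h3).2
  · intro hys
    have h3 : y ∈ f ⁻¹ᵁ X.basicOpen c := h1.le ⟨hxU, hys⟩
    rw [Scheme.preimage_basicOpen] at h3
    exact (h2.ge h3).2

/-- An immersion is a closed immersion over opens avoiding the boundary of its image. -/
theorem isClosedImmersion_restrict (i : Y ⟶ X) [IsImmersion i] (D : X.Opens)
    (hD : ∀ p ∈ D, p ∈ closure (Set.range i.base) → p ∈ Set.range i.base) :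
    IsClosedImmersion (i ∣_ D) := by
  haveI : IsPreimmersion (i ∣_ D) := inferInstance
  refine IsClosedImmersion.of_isPreimmersion _ ?_
  rw [show Set.range (i ∣_ D).base = D.ι.base ⁻¹' closure (Set.range i.base) from ?_]
  · exact isClosed_closure.preimage D.ι.continuous
  ext p
  constructor
  · rintro ⟨z, rfl⟩
    refine subset_closure ⟨(i ⁻¹ᵁ D).ι z, ?_⟩
    rw [← Scheme.Hom.comp_apply, ← Scheme.Hom.comp_apply, morphismRestrict_ι]
  · intro hp
    obtain ⟨z, hz⟩ := hD (D.ι p) p.2 hp
    refine ⟨⟨z, show i.base z ∈ D from hz ▸ p.2⟩, D.ι.isOpenEmbedding.injective ?_⟩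
    rw [← Scheme.Hom.comp_apply, morphismRestrict_ι]
    exact hz

/-- Functions extend along an immersion over affine opens avoiding the boundary. -/
theorem immersion_app_surjective (i : Y ⟶ X) [IsImmersion i] {D : X.Opens} (hD : IsAffineOpen D)
    (hav : ∀ p ∈ D, p ∈ closure (Set.range i.base) → p ∈ Set.range i.base) :
    IsAffineOpen (i ⁻¹ᵁ D) ∧ Function.Surjective (i.app D) := by
  haveI := isClosedImmersion_restrict i D hav
  haveI : IsAffine D.toScheme := hD
  haveI : IsAffine (i ⁻¹ᵁ D).toScheme := isAffine_of_isAffineHom (i ∣_ D)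
  refine ⟨‹IsAffine (i ⁻¹ᵁ D).toScheme›, ?_⟩
  intro b
  have hs := (i ∣_ D).app_surjective ⊤ (isAffineOpen_top D.toScheme)
  rw [morphismRestrict_app] at hs
  have e : D.ι ''ᵁ ⊤ = D := D.ι_image_top
  have hs' : Function.Surjective (i.app (D.ι ''ᵁ ⊤)) := fun c => by
    obtain ⟨a, ha⟩ := hs ((Y.presheaf.map (eqToHom (image_morphismRestrict_preimage i D ⊤)).op).hom c)
    exact ⟨a, (ConcreteCategory.bijective_of_isIso
      (Y.presheaf.map (eqToHom (image_morphismRestrict_preimage i D ⊤)).op)).1 ha⟩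
  rw [e] at hs'
  exact hs' b

end Groth.Agent.FinBirat
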