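import Groth.Agent.FinBirat.LiftTau
import Groth.Agent.FinBirat.Conductor
import Groth.Agent.FinBirat.Helpers
import Groth.Agent.S2153
import Groth.Agent.ProjMor.VAmpleApply
import Groth.Agent.ProjMor.Segre
import Groth.Agent.HQProj.Basic
import Groth.Agent.AbsApprox.Chevalley
import Groth.Agent.TMul.AffineLocus

/-!
Ampleness descends along a finite birational morphism which is an isomorphism off a proper subset.
-/

set_option autoImplicit false
set_option backward.isDefEq.respectTransparency false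
set_option linter.style.haveILetI false
set_option linter.unusedSectionVars false

universe u

open CategoryTheory CategoryTheory.Limits AlgebraicGeometry TopologicalSpace Opposite
open Groth.Agent.QC (res resO res_res res_self res_smul resO_resO app_res)

noncomputable section

namespace Groth.Agent.FinBirat

open Groth.Agent

variable {R : Type u} [CommRing R] [IsNoetherianRing R] {X Z : Scheme.{u}}

lemma pow_Jc_le (O : X.Opens) {m : ℕ} (hm : 0 < m) : (Jc O) ^ m ≤ Jc O := fun U => by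
  rw [Scheme.IdealSheafData.ideal_pow, Pi.pow_apply]
  exact Ideal.pow_le_self hm.ne'

theorem isAffineOpen_of_preimage [IsNoetherian X] [X.IsSeparated] (h : Z ⟶ X) [IsFinite h] [Surjective h]
    {V : X.Opens} (hV : IsAffineOpen (h ⁻¹ᵁ V)) : IsAffineOpen V := by
  haveI : IsAffine (h ⁻¹ᵁ V).toScheme := hV
  haveI : CompactSpace V.toScheme := isCompact_iff_compactSpace.mp (NoetherianSpace.isCompact (V : Set X))
  haveI : IsFinite (h ∣_ V) := IsZariskiLocalAtTarget.restrict ‹_› _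
  haveI : Surjective (h ∣_ V) := IsZariskiLocalAtTarget.restrict ‹_› _
  exact AbsApprox.isAffine_of_integral_surjective (h ∣_ V)

set_option maxHeartbeats 800000 in
/-- Sections with affine generation locus around points where the morphism is an isomorphism. -/
theorem exists_section_off [IsNoetherian X] [IsReduced X] [IsReduced Z] [X.IsSeparated]
    (h : Z ⟶ X) [IsFinite h] [Surjective h] (O : X.Opens) [IsIso (h ∣_ O)] {L : X.Modules}
    (hL : PicF.IsInvertible L) (hZA : CohB1.IsAmple ((Scheme.Modules.pullback h).obj L))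
    (I : X.IdealSheafData) (hsupp : (I.support : Set X) = (O : Set X)ᶜ)
    (hI : ∀ (U : X.affineOpens) (b : Γ(Z, h ⁻¹ᵁ U.1)), ∀ c ∈ I.ideal U,
      ∃ e, (h.app U.1).hom e = (h.app U.1).hom c * b)
    (x : X) (hx : x ∈ O) :
    ∃ (n : ℕ) (t : Coh.structureModule X ⟶ CohB1.tensorPow L (n + 1)),
      x ∈ CohB1.genLocus _ t ∧ IsAffineOpen (CohB1.genLocus _ t) := by
  classical
  haveI : CompactSpace Z := QuasiCompact.compactSpace_of_compactSpace h
  obtain ⟨n, s₀, hZs, hsle, hsaff⟩ := TMul.exists_finite_le hZA (Z := h.base ⁻¹' {x})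
    (h.finite_preimage_singleton x) (U := h ⁻¹ᵁ O) (fun z hz => by
      show h.base z ∈ O
      rw [Set.mem_preimage.mp hz |> Set.mem_singleton_iff.mp]
      exact hx)
  obtain ⟨i⟩ := TMul.nonempty_pullPowIso h L (n + 1)
  let K₀ := CohB1.tensorPow L (n + 1)
  have hK₀ : PicF.IsInvertible K₀ := TMul.isInvertible_tensorPow hL _
  let N₀ := (Scheme.Modules.pullback h).obj K₀
  have hN₀ : PicF.IsInvertible N₀ := PicLoc.isInvertible_pullback h hK₀
  let σ₀ : Coh.structureModule Z ⟶ N₀ := s₀ ≫ i.hom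
  have hσ₀ : CohB1.genLocus N₀ σ₀ = CohB1.genLocus _ s₀ := TMul.genLocus_comp _ _
  have hpiece : ∀ z : Z, ∃ (Q : Z.affineOpens) (f : Γ(N₀, Q.1)), z ∈ Q.1 ∧ TMul.IsGen f := fun z => by
    obtain ⟨V, f, hzV, hf⟩ := TMul.exists_isGen hN₀ z
    obtain ⟨Q, hQ, hzQ, hQV⟩ := exists_isAffineOpen_mem_and_subset (x := z) (U := V) hzV
    exact ⟨⟨Q, hQ⟩, res N₀ hQV f, hzQ, hf.res hQV⟩
  choose Q f hzQ hf using hpiece
  choose c hc using fun z => ((hf z) (Q z).1 le_rfl).2 (TMul.val σ₀ (Q z).1)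
  simp only [res_self] at hc
  have hgen : ∀ z, (Q z).1 ⊓ CohB1.genLocus N₀ σ₀ = Z.basicOpen (c z) := fun z =>
    TMul.genLocus_inf σ₀ (hf z) (hc z).symm
  have hrad : ∀ z, c z ∈ ((I.comap h).ideal (Q z)).radical := fun z => by
    rw [Ideal.radical_eq_sInf, Ideal.mem_sInf]
    rintro P ⟨hP, hPp⟩
    by_contra hcP
    let p : PrimeSpectrum Γ(Z, (Q z).1) := ⟨P, hPp⟩
    let w : Z := (Q z).2.fromSpec p
    have hwQ : w ∈ (Q z).1 := (Q z).2.range_fromSpec.le (Set.mem_range_self p)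
    have hwc : w ∈ Z.basicOpen (c z) := by
      have h2 : p ∈ (Q z).2.fromSpec ⁻¹ᵁ Z.basicOpen (c z) := by
        rw [(Q z).2.fromSpec_preimage_basicOpen]; exact hcP
      exact h2
    have hwO : h.base w ∈ O := hsle (hσ₀.le (((hgen z).ge hwc).2))
    have hws : w ∈ ((I.comap h).support : Set Z) := by
      refine ((I.comap h).mem_support_iff_of_mem (U := Q z) hwQ).mpr
        ((Scheme.mem_zeroLocus_iff _ _ _).mpr fun d hd hb => ?_)
      have h2 : p ∈ (Q z).2.fromSpec ⁻¹ᵁ Z.basicOpen d := hb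
      rw [(Q z).2.fromSpec_preimage_basicOpen] at h2
      exact h2 (hP hd)
    rw [Scheme.IdealSheafData.support_comap] at hws
    have : h.base w ∈ (I.support : Set X) := hws
    rw [hsupp] at this
    exact this hwO
  choose k hk using fun z => (hrad z)
  obtain ⟨F, hF⟩ := isCompact_univ.elim_finite_subcover (fun z : Z => ((Q z).1 : Set Z)) (fun z => (Q z).1.2)
    (fun z _ => Set.mem_iUnion.mpr ⟨z, hzQ z⟩)
  let e := F.sup k + 1
  let v : Γ(CohB1.tensorPow N₀ e, ⊤) := TMul.pw (TMul.val σ₀ ⊤) e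
  let T := TMul.homOf v
  have hTv : ∀ z, TMul.val T (Q z).1 = c z ^ e • TMul.pw (f z) e := fun z => by
    rw [TMul.val_homOf, TMul.res_pw, TMul.res_val, ← hc z, TMul.pw_smul]
  have hTgen : CohB1.genLocus _ T = CohB1.genLocus N₀ σ₀ := by
    ext w
    have h1 := TMul.genLocus_inf T (TMul.isGen_pw (hf w) e) (hTv w)
    rw [Z.basicOpen_pow _ (show 0 < e from Nat.succ_pos _)] at h1
    have h2 := hgen w
    constructor
    · exact fun hw => (h2.ge (h1.le ⟨hzQ w, hw⟩)).2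
    · exact fun hw => (h1.ge (h2.le ⟨hzQ w, hw⟩)).2
  have hTtau : tau (I.comap h) _ (TMul.val T ⊤) = 0 := by
    refine tau_eq_zero_of_locally _ _ _ fun w _ => ?_
    obtain ⟨z, hzF, hwz⟩ := Set.mem_iUnion₂.mp (hF (Set.mem_univ w))
    refine ⟨(Q z).1, le_top, hwz, ?_⟩
    rw [TMul.res_val, hTv, tau_smul_eq_zero_iff _ _ (Q z).2 (TMul.isGen_pw (hf z) e)]
    exact Ideal.pow_mem_of_pow_mem _ (hk z) ((Finset.le_sup hzF).trans (Nat.le_succ _))
  obtain ⟨φ⟩ := TMul.nonempty_pullPowIso h K₀ e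
  let S := T ≫ φ.hom
  have hStau : ∀ V : Z.Opens, tau (I.comap h) _ (TMul.val S V) = 0 := fun V => by
    rw [← TMul.res_val S (le_top (a := V)), tau_res, TMul.val_comp]
    rw [tau_app_iso (I.comap h) (TMul.isInvertible_tensorPow hN₀ e) φ _ hTtau, map_zero]
  have hK : PicF.IsInvertible (CohB1.tensorPow K₀ e) := TMul.isInvertible_tensorPow hK₀ _
  obtain ⟨t, ht⟩ := exists_descend hK I hI S (fun y => by
    obtain ⟨V₀, e₀, hyV₀, he₀⟩ := TMul.exists_isGen hK y
    obtain ⟨V, hV, hyV, hVle⟩ := exists_isAffineOpen_mem_and_subset (x := y) (U := V₀) hyV₀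
    refine ⟨⟨V, hV⟩, hyV, res _ hVle e₀, he₀.res hVle, 0, ?_⟩
    rw [map_zero, zero_smul, sub_zero]
    exact hStau _)
  obtain ⟨j⟩ := TMul.nonempty_powMulIso L (n + 1) e
  obtain ⟨M, hM⟩ : ∃ M, (n + 1) * e = M + 1 :=
    ⟨(n + 1) * e - 1, (Nat.sub_add_cancel (Nat.mul_pos (Nat.succ_pos _) (Nat.succ_pos _))).symm⟩
  let j' := j ≪≫ eqToIso (congrArg (CohB1.tensorPow L) hM)
  refine ⟨M, t ≫ j'.hom, ?_⟩
  rw [TMul.genLocus_comp]
  have hpre : h ⁻¹ᵁ CohB1.genLocus _ t = CohB1.genLocus _ s₀ := by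
    rw [← ht, TMul.genLocus_comp, hTgen, hσ₀]
  refine ⟨?_, isAffineOpen_of_preimage h (hpre ▸ hsaff)⟩
  obtain ⟨z, hz⟩ := h.surjective x
  have h1 : z ∈ h ⁻¹ᵁ CohB1.genLocus _ t := hpre ▸ hZs (show h.base z ∈ ({x} : Set X) from hz)
  exact hz ▸ h1

set_option maxHeartbeats 1600000 in
/-- Sections with affine generation locus around points of the proper subset. -/
theorem exists_section_on (q : X ⟶ Spec (CommRingCat.of R)) [LocallyOfFiniteType q]
    [IsNoetherian X] [IsReduced X] [X.IsSeparated]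
    (h : Z ⟶ X) [IsFinite h] [Surjective h] (O : X.Opens)
    (hprop : IsProper ((Jc O).subschemeι ≫ q)) {L : X.Modules}
    (hL : PicF.IsInvertible L) (hZA : CohB1.IsAmple ((Scheme.Modules.pullback h).obj L))
    (hCA : CohB1.IsAmple ((Scheme.Modules.pullback (Jc O).subschemeι).obj L))
    {m : ℕ} (hm : 0 < m)
    (hI : ∀ (U : X.affineOpens) (b : Γ(Z, h ⁻¹ᵁ U.1)), ∀ c ∈ ((Jc O) ^ m).ideal U,
      ∃ e, (h.app U.1).hom e = (h.app U.1).hom c * b)
    (x₁ : X) (hx₁ : x₁ ∉ O) :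
    ∃ (n : ℕ) (t : Coh.structureModule X ⟶ CohB1.tensorPow L (n + 1)),
      x₁ ∈ CohB1.genLocus _ t ∧ IsAffineOpen (CohB1.genLocus _ t) := by
  classical
  haveI := hprop
  haveI : IsLocallyNoetherian Z := LocallyOfFiniteType.isLocallyNoetherian h
  haveI : CompactSpace Z := QuasiCompact.compactSpace_of_compactSpace h
  haveI : IsNoetherian Z := ⟨⟩
  haveI : LocallyOfFiniteType (h ≫ q) := inferInstance
  let I := (Jc O) ^ m
  have hsupp : (I.support : Set X) = (O : Set X)ᶜ := by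
    rw [Scheme.IdealSheafData.support_pow _ _ hm.ne', support_Jc]
  have hrangeW : Set.range I.subschemeι.base = (O : Set X)ᶜ := by
    rw [Scheme.IdealSheafData.range_subschemeι, hsupp]
  -- ampleness on the thickening
  let ι' := Scheme.IdealSheafData.inclusion (pow_Jc_le O hm)
  haveI : IsClosedImmersion ι' := by
    haveI : IsClosedImmersion (ι' ≫ I.subschemeι) := by
      rw [Scheme.IdealSheafData.inclusion_subschemeι]; infer_instance
    exact IsClosedImmersion.of_comp ι' I.subschemeι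
  have hhomeo : IsHomeomorph ι'.base := by
    rw [isHomeomorph_iff_isEmbedding_surjective]
    refine ⟨ι'.isClosedEmbedding.isEmbedding, fun w => ?_⟩
    have hw : I.subschemeι.base w ∈ Set.range (Jc O).subschemeι.base := by
      rw [Scheme.IdealSheafData.range_subschemeι, support_Jc, ← hrangeW]
      exact Set.mem_range_self w
    obtain ⟨v, hv⟩ := hw
    refine ⟨v, I.subschemeι.isClosedEmbedding.injective ?_⟩
    rw [← Scheme.Hom.comp_apply, Scheme.IdealSheafData.inclusion_subschemeι]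
    exact hv
  have hWA : CohB1.IsAmple ((Scheme.Modules.pullback I.subschemeι).obj L) := by
    refine (Groth.Agent.S2153.result ι' hhomeo _ (PicLoc.isInvertible_pullback _ hL)).mp ?_
    exact TMul.isAmple_congr ((Scheme.Modules.pullbackCongr
      (Scheme.IdealSheafData.inclusion_subschemeι (pow_Jc_le O hm)).symm).app L ≪≫
      ((Scheme.Modules.pullbackComp ι' I.subschemeι).app L).symm) hCA
  obtain ⟨w₁, hw₁⟩ : ∃ w, I.subschemeι.base w = x₁ := by
    rw [← Set.mem_range, hrangeW]; exact hx₁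
  obtain ⟨n₀, t₀, hwt₀, -⟩ := hWA.2.2 w₁
  -- the immersion into projective space
  obtain ⟨d, hd, hva⟩ := ProjMor.eventually_isRelVeryAmplePn (h ≫ q) hZA
  obtain ⟨r, i, hi, hiq, ⟨εd⟩⟩ := hva d le_rfl
  haveI := hi
  let S := Spec (CommRingCat.of R)
  let P := CohB1.ProjSpaceOver r S
  let O₁ := Twist.twistOver r S 1
  let qP := CohB1.ProjSpaceOver.toBase r S
  haveI : IsProper qP := HQProj.isProper_toBase r S
  haveI : IsLocallyNoetherian P := LocallyOfFiniteType.isLocallyNoetherian qP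
  have hO₁ : CohB1.IsAmple O₁ := ProjMor.isAmple_twistOver r S
  haveI : P.IsSeparated := TMul.isSeparated_of_isAmple hO₁
  -- the boundary and the image of the proper part
  let B : Set P := closure (Set.range i.base) \ Set.range i.base
  have hBclosed : IsClosed B := by
    have := i.isLocallyClosed_range.isOpen_coborder.isClosed_compl
    rwa [coborder, compl_compl] at this
  let Ih := I.comap h
  have hIhsupp : (Ih.support : Set Z) = h.base ⁻¹' (O : Set X)ᶜ := by
    rw [Scheme.IdealSheafData.support_comap]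
    show h.base ⁻¹' (I.support : Set X) = _
    rw [hsupp]
  let C₁ : Set P := i.base '' (h.base ⁻¹' (O : Set X)ᶜ)
  have hC₁closed : IsClosed C₁ := by
    let a := pullback.fst h (Jc O).subschemeι
    haveI : IsFinite (pullback.snd h (Jc O).subschemeι) := MorphismProperty.pullback_snd _ _ inferInstance
    haveI : IsProper ((a ≫ i) ≫ qP) := by
      have e : (a ≫ i) ≫ qP = pullback.snd h (Jc O).subschemeι ≫ ((Jc O).subschemeι ≫ q) := by
        rw [← Category.assoc, ← pullback.condition, Category.assoc, Category.assoc]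
        exact congrArg (a ≫ ·) hiq
      rw [e]; infer_instance
    haveI : IsProper (a ≫ i) := IsProper.of_comp (a ≫ i) qP
    have e : C₁ = Set.range (a ≫ i).base := by
      rw [Scheme.Hom.comp_base, TopCat.coe_comp, Set.range_comp, Scheme.Pullback.range_fst,
        Scheme.IdealSheafData.range_subschemeι, support_Jc]
    rw [e]
    exact (a ≫ i).isClosedMap.isClosed_range
  have hC₁B : Disjoint C₁ B := Set.disjoint_left.mpr fun p ⟨z, _, hz⟩ hp => hp.2 ⟨z, hz⟩
  have hav : ∀ (D : P.Opens), Disjoint (D : Set P) B →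
      ∀ p ∈ D, p ∈ closure (Set.range i.base) → p ∈ Set.range i.base := fun D hD p hp hcl => by
    by_contra hr
    exact Set.disjoint_left.mp hD hp ⟨hcl, hr⟩
  let vB : P.IdealSheafData := Scheme.IdealSheafData.vanishingIdeal ⟨B, hBclosed⟩
  have hvBsupp : (vB.support : Set P) = B := Scheme.IdealSheafData.coe_support_vanishingIdeal _
  let IC : P.IdealSheafData := Ih.map i ⊓ vB
  have hmapsupp : ((Ih.map i).support : Set P) ⊆ C₁ := by
    have e : ((Ih.map i).support : Set P) = closure (Set.range (Ih.subschemeι ≫ i).base) :=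
      Scheme.Hom.support_ker _
    rw [e]
    refine closure_minimal ?_ hC₁closed
    rw [Scheme.Hom.comp_base, TopCat.coe_comp, Set.range_comp, Scheme.IdealSheafData.range_subschemeι, hIhsupp]
  have hICsupp : ∀ p : P, p ∈ (IC.support : Set P) → p ∈ C₁ ∨ p ∈ B := fun p hp => by
    have hle : Ih.map i * vB ≤ IC := fun U => Ideal.mul_le_inf
    replace hp := Scheme.IdealSheafData.support_antitone hle hp
    rw [Scheme.IdealSheafData.support_mul] at hp
    rcases hp with hp | hp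
    · exact Or.inl (hmapsupp hp)
    · exact Or.inr (hvBsupp.le hp)
  have hICle : IC.comap i ≤ Ih :=
    (Scheme.IdealSheafData.comap_mono i inf_le_left).trans (Scheme.IdealSheafData.comap_map_le _ _)
  obtain ⟨k₀, hk₀⟩ := exists_lift qP hO₁ IC
  let k := (n₀ + 1) * (k₀ + 1)
  obtain ⟨N', hN'⟩ : ∃ N', d * k = N' + 1 :=
    ⟨d * k - 1, (Nat.sub_add_cancel (Nat.mul_pos hd (Nat.mul_pos (Nat.succ_pos _) (Nat.succ_pos _)))).symm⟩
  let K := CohB1.tensorPow L (N' + 1)
  have hK : PicF.IsInvertible K := TMul.isInvertible_tensorPow hL _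
  let M := CohB1.tensorPow O₁ k
  have hM : PicF.IsInvertible M := TMul.isInvertible_tensorPow hO₁.1 _
  let K₁ := (Scheme.Modules.pullback h).obj K
  have hK₁ : PicF.IsInvertible K₁ := PicLoc.isInvertible_pullback h hK
  obtain ⟨ε⟩ : Nonempty (K₁ ≅ (Scheme.Modules.pullback i).obj M) := by
    obtain ⟨a₁⟩ := TMul.nonempty_pullPowIso h L (N' + 1)
    obtain ⟨a₂⟩ := TMul.nonempty_powMulIso ((Scheme.Modules.pullback h).obj L) d k
    obtain ⟨a₃⟩ := TMul.nonempty_powCongr εd k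
    obtain ⟨a₄⟩ := TMul.nonempty_pullPowIso i O₁ k
    exact ⟨a₁.symm ≪≫ eqToIso (congrArg (CohB1.tensorPow _) hN'.symm) ≪≫ a₂.symm ≪≫ a₃ ≪≫ a₄⟩
  let θi : M ⟶ (Scheme.Modules.pushforward i).obj K₁ := SymAlg.pullθ i ε
  have hθi : ∀ (V : P.Opens) (e : Γ(M, V)), TMul.IsGen e →
      TMul.IsGen (X := Z) (N := K₁) (U := i ⁻¹ᵁ V) (θi.app V e) := fun V e he =>
    SymAlg.isGen_pullθ i ε hK₁ (TMul.isQCoh_of_isInvertible hM) e he
  let θh : K ⟶ (Scheme.Modules.pushforward h).obj K₁ := SymAlg.pullθ h (Iso.refl _)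
  have hθh : ∀ (V : X.Opens) (e : Γ(K, V)), TMul.IsGen e →
      TMul.IsGen (X := Z) (N := K₁) (U := h ⁻¹ᵁ V) (θh.app V e) := fun V e he =>
    SymAlg.isGen_pullθ h (Iso.refl _) hK₁ (TMul.isQCoh_of_isInvertible hK) e he
  -- the prescribed classes on `X`
  let KW := (Scheme.Modules.pullback I.subschemeι).obj K
  let θW : K ⟶ (Scheme.Modules.pushforward I.subschemeι).obj KW := SymAlg.pullθ I.subschemeι (Iso.refl _)
  have hKW : PicF.IsInvertible KW := PicLoc.isInvertible_pullback _ hK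
  have hθW : ∀ (V : X.Opens) (e : Γ(K, V)), TMul.IsGen e →
      TMul.IsGen (X := I.subscheme) (N := KW) (U := I.subschemeι ⁻¹ᵁ V) (θW.app V e) := fun V e he =>
    SymAlg.isGen_pullθ I.subschemeι (Iso.refl _) hKW (TMul.isQCoh_of_isInvertible hK) e he
  obtain ⟨aW⟩ := TMul.nonempty_pullPowIso I.subschemeι L (N' + 1)
  obtain ⟨t₁, ht₁⟩ := TMul.exists_genLocus_pow (PicLoc.isInvertible_pullback I.subschemeι hL)
    (show n₀ + 1 ∣ N' + 1 by rw [← hN']; exact Dvd.dvd.mul_left (dvd_mul_right _ _) d) t₀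
  let τW : Coh.structureModule I.subscheme ⟶ KW := t₁ ≫ aW.hom
  have hτW : w₁ ∈ CohB1.genLocus KW τW := by
    rw [TMul.genLocus_comp, ht₁]; exact hwt₀
  have hdata : ∀ x : X, ∃ (U : X.affineOpens) (_ : x ∈ U.1) (e : Γ(K, U.1)) (_ : TMul.IsGen e)
      (a : Γ(X, U.1)), (show Γ(KW, I.subschemeι ⁻¹ᵁ U.1) from θW.app U.1 (a • e)) =
        TMul.val τW (I.subschemeι ⁻¹ᵁ U.1) := by
    intro x
    obtain ⟨V₀, e₀, hxV₀, he₀⟩ := TMul.exists_isGen hK x
    obtain ⟨U, hU, hxU, hUle⟩ := exists_isAffineOpen_mem_and_subset (x := x) (U := V₀) hxV₀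
    have he := he₀.res hUle
    obtain ⟨b, hb⟩ := ((hθW _ _ he) (I.subschemeι ⁻¹ᵁ U) le_rfl).2 (TMul.val τW (I.subschemeι ⁻¹ᵁ U))
    simp only [res_self] at hb
    obtain ⟨a, ha⟩ := I.subschemeι.app_surjective U hU b
    refine ⟨⟨U, hU⟩, hxU, _, he, a, ?_⟩
    rw [← hb, ← ha, Scheme.Modules.Hom.app_smul]
    rfl
  choose U hxU e he a ha using hdata
  have hcompat : ∀ (x y : X) (V : X.Opens) (hx : V ≤ (U x).1) (hy : V ≤ (U y).1),
      tau I K (res K hx (a x • e x) - res K hy (a y • e y)) = 0 := by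
    intro x y V hx hy
    refine tau_eq_zero_of_locally I K _ fun p hp => ?_
    obtain ⟨Q, hQ, hpQ, hQV⟩ := exists_isAffineOpen_mem_and_subset (x := p) (U := V) hp
    refine ⟨Q, hQV, hpQ, ?_⟩
    have hQU : Q ≤ (U x).1 := le_trans hQV hx
    obtain ⟨c, hc⟩ := (((he x).res hQU) Q le_rfl).2 (res K hQV (res K hx (a x • e x) - res K hy (a y • e y)))
    simp only [res_self] at hc
    rw [← hc, tau_smul_eq_zero_iff I K hQ ((he x).res hQU)]
    have hg := hθW _ _ ((he x).res hQU)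
    have key : ∀ (y' : X) (hQy : Q ≤ (U y').1),
        (show Γ(KW, I.subschemeι ⁻¹ᵁ Q) from θW.app Q (res K hQy (a y' • e y'))) =
          TMul.val τW (I.subschemeι ⁻¹ᵁ Q) := fun y' hQy => by
      rw [← TMul.res_val τW (I.subschemeι.preimage_mono hQy), ← ha y', ← app_res]
      rfl
    have h0 : (show Γ(KW, I.subschemeι ⁻¹ᵁ Q) from θW.app Q (c • res K hQU (e x))) = 0 := by
      rw [hc, map_sub, res_res, res_res]
      show (θW.app Q) (_ - _) = 0
      rw [map_sub]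
      exact sub_eq_zero.mpr ((key x _).trans (key y _).symm)
    have h1 : (I.subschemeι.app Q).hom c • (show Γ(KW, I.subschemeι ⁻¹ᵁ Q) from θW.app Q (res K hQU (e x))) =
        (0 : Γ(I.subscheme, I.subschemeι ⁻¹ᵁ Q)) • (show Γ(KW, I.subschemeι ⁻¹ᵁ Q) from θW.app Q (res K hQU (e x))) := by
      rw [zero_smul, ← h0, Scheme.Modules.Hom.app_smul]
      rfl
    have h2 : (I.subschemeι.app Q).hom c = 0 :=
      (hg (I.subschemeι ⁻¹ᵁ Q) le_rfl).1 (by simp only [res_self]; exact h1)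
    exact (I.ker_subschemeι_app ⟨Q, hQ⟩).le (RingHom.mem_ker.mpr h2)
  -- the prescribed classes on projective space
  have hcharts : ∀ p : P, ∃ (D : P.Opens) (σ : Γ(M, D)), p ∈ D ∧
      ((Disjoint (D : Set P) C₁ ∧ σ = 0) ∨
        (Disjoint (D : Set P) B ∧ ∃ (x : X) (hle : i ⁻¹ᵁ D ≤ h ⁻¹ᵁ (U x).1),
          (show Γ(K₁, i ⁻¹ᵁ D) from θi.app D σ) =
            res K₁ hle (show Γ(K₁, h ⁻¹ᵁ (U x).1) from θh.app (U x).1 (a x • e x)))) := by
    intro p
    by_cases hp : p ∈ C₁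
    swap
    · exact ⟨⟨C₁ᶜ, hC₁closed.isOpen_compl⟩, 0, hp, Or.inl ⟨disjoint_compl_left, rfl⟩⟩
    obtain ⟨z, hzC, rfl⟩ := hp
    obtain ⟨G, hG, hGeq⟩ := i.isEmbedding.isInducing.isOpen_iff.mp (h ⁻¹ᵁ (U (h.base z)).1).2
    obtain ⟨V₀, f₀, hV₀, hf₀⟩ := TMul.exists_isGen hM (i.base z)
    have hzG : i.base z ∈ G := by
      show z ∈ i.base ⁻¹' G
      rw [hGeq]; exact hxU (h.base z)
    obtain ⟨D, hD, hzD, hDle⟩ := exists_isAffineOpen_mem_and_subset (x := i.base z)
      (U := V₀ ⊓ ⟨G ∩ Bᶜ, hG.inter hBclosed.isOpen_compl⟩)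
      ⟨hV₀, hzG, Set.disjoint_left.mp hC₁B ⟨z, hzC, rfl⟩⟩
    have hDB : Disjoint (D : Set P) B := Set.disjoint_left.mpr fun q hq => (hDle hq).2.2
    have hle : i ⁻¹ᵁ D ≤ h ⁻¹ᵁ (U (h.base z)).1 := fun w hw => hGeq.le (hDle hw).2.1
    obtain ⟨-, hsur⟩ := immersion_app_surjective i hD (hav D hDB)
    have hf := hf₀.res (show D ≤ V₀ from fun q hq => (hDle hq).1)
    obtain ⟨β, hβ⟩ := ((hθi _ _ hf) (i ⁻¹ᵁ D) le_rfl).2
      (res K₁ hle (show Γ(K₁, h ⁻¹ᵁ (U (h.base z)).1) from θh.app (U (h.base z)).1 (a (h.base z) • e (h.base z))))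
    simp only [res_self] at hβ
    obtain ⟨c, hc⟩ := hsur β
    refine ⟨D, c • res M (fun q hq => (hDle hq).1) f₀, hzD, Or.inr ⟨hDB, h.base z, hle, ?_⟩⟩
    rw [← hβ, ← hc, Scheme.Modules.Hom.app_smul]
    rfl
  choose D σ hpD hσ using hcharts
  have hk : k₀ ≤ k := le_trans (Nat.le_succ k₀) (Nat.le_mul_of_pos_left _ (Nat.succ_pos n₀))
  obtain ⟨s, hs⟩ := hk₀ k hk P D (fun p => ⟨p, hpD p⟩) σ (fun p p' => by
    have hCB : ∀ p p' : P, Disjoint (D p : Set P) C₁ → σ p = 0 → Disjoint (D p' : Set P) B →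
        tau IC M (res M (inf_le_right : D p ⊓ D p' ≤ D p') (σ p')) = 0 := fun p p' hC _ hB =>
      tau_eq_zero_of_disjoint IC M hM _ fun q hq hqs => (hICsupp q hqs).elim
        (fun hc => Set.disjoint_left.mp hC hq.1 hc) fun hb => Set.disjoint_left.mp hB hq.2 hb
    rw [← sub_eq_zero, ← tau_sub]
    rcases hσ p with ⟨hC, h0⟩ | ⟨hB, x, hle, hx⟩ <;> rcases hσ p' with ⟨hC', h0'⟩ | ⟨hB', x', hle', hx'⟩
    · rw [h0, h0', map_zero, map_zero, sub_zero]
      exact tau_zero IC M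
    · rw [h0, map_zero, tau_sub, hCB p p' hC h0 hB', tau_zero, sub_zero]
    · rw [h0', map_zero, sub_zero]
      exact tau_eq_zero_of_disjoint IC M hM _ fun q hq hqs => (hICsupp q hqs).elim
        (fun hc => Set.disjoint_left.mp hC' hq.2 hc) fun hb => Set.disjoint_left.mp hB hq.1 hb
    refine tau_eq_zero_of_locally IC M _ fun q hq => ?_
    obtain ⟨V₀, f₀, hqV₀, hf₀⟩ := TMul.exists_isGen hM q
    obtain ⟨Q, hQ, hqQ, hQle⟩ := exists_isAffineOpen_mem_and_subset (x := q)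
      (U := V₀ ⊓ (D p ⊓ D p')) ⟨hqV₀, hq⟩
    have hQD : Q ≤ D p ⊓ D p' := fun w hw => (hQle hw).2
    refine ⟨Q, hQD, hqQ, ?_⟩
    have hf := hf₀.res (show Q ≤ V₀ from fun w hw => (hQle hw).1)
    obtain ⟨c, hc⟩ := (hf Q le_rfl).2 (res M hQD (res M inf_le_left (σ p) - res M inf_le_right (σ p')))
    simp only [res_self] at hc
    rw [← hc, tau_smul_eq_zero_iff IC M hQ hf]
    have hQB : Disjoint (Q : Set P) B := Set.disjoint_left.mpr fun w hw => Set.disjoint_left.mp hB (hQD hw).1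
    obtain ⟨hiQ, -⟩ := immersion_app_surjective i hQ (hav Q hQB)
    have hg := hθi _ _ hf
    have hQp : i ⁻¹ᵁ Q ≤ i ⁻¹ᵁ D p := fun w hw => (hQD hw).1
    have hQp' : i ⁻¹ᵁ Q ≤ i ⁻¹ᵁ D p' := fun w hw => (hQD hw).2
    have hdiff : (show Γ(K₁, i ⁻¹ᵁ Q) from θi.app Q (c • res M (fun w hw => (hQle hw).1) f₀)) =
        res K₁ (hQp.trans hle) (show Γ(K₁, h ⁻¹ᵁ (U x).1) from θh.app (U x).1 (a x • e x)) -
        res K₁ (hQp'.trans hle') (show Γ(K₁, h ⁻¹ᵁ (U x').1) from θh.app (U x').1 (a x' • e x')) := by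
      rw [hc, map_sub, res_res, res_res]
      show (θi.app Q) (_ - _) = _
      rw [map_sub]
      have e1 : ∀ (p : P) (hQq : Q ≤ D p), (show Γ(K₁, i ⁻¹ᵁ Q) from θi.app Q (res M hQq (σ p))) =
          res K₁ (i.preimage_mono hQq) (show Γ(K₁, i ⁻¹ᵁ D p) from θi.app (D p) (σ p)) := fun p hQq => by
        rw [← app_res]; rfl
      refine congrArg₂ (· - ·) ((e1 p fun w hw => (hQD hw).1).trans ?_) ((e1 p' fun w hw => (hQD hw).2).trans ?_)
      · rw [hx, res_res]
      · rw [hx', res_res]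
    have hz : tau (X := Z) Ih K₁ (show Γ(K₁, i ⁻¹ᵁ Q) from θi.app Q (c • res M (fun w hw => (hQle hw).1) f₀)) = 0 := by
      let V := (U x).1 ⊓ (U x').1
      have hQV : i ⁻¹ᵁ Q ≤ h ⁻¹ᵁ V := fun w hw => ⟨hle (hQp hw), hle' (hQp' hw)⟩
      have h1 := tau_map I K hK h Ih le_rfl θh hθh _ (hcompat x x' V inf_le_left inf_le_right)
      have h2 := congrArg (res _ hQV) h1
      rw [map_zero, ← tau_res] at h2
      rw [hdiff]
      have e2 : ∀ (x : X) (hV : V ≤ (U x).1) (hQx : i ⁻¹ᵁ Q ≤ h ⁻¹ᵁ (U x).1),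
          res K₁ hQV (show Γ(K₁, h ⁻¹ᵁ V) from θh.app V (res K hV (a x • e x))) =
            res K₁ hQx (show Γ(K₁, h ⁻¹ᵁ (U x).1) from θh.app (U x).1 (a x • e x)) := fun x hV hQx => by
        rw [← app_res]
        exact res_res K₁ hQV (h.preimage_mono hV) _
      rw [← e2 x inf_le_left, ← e2 x' inf_le_right, ← map_sub]
      refine Eq.trans (congrArg (fun o => tau Ih K₁ (res K₁ hQV o)) ?_) h2
      exact (map_sub (ConcreteCategory.hom (θh.app V)) _ _).symm
    have hz' : (i.app Q).hom c ∈ Ih.ideal ⟨_, hiQ⟩ := by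
      refine (tau_smul_eq_zero_iff Ih K₁ hiQ hg _).mp (Eq.trans (congrArg (tau Ih K₁) ?_) hz)
      rw [Scheme.Modules.Hom.app_smul]
      rfl
    rw [Scheme.IdealSheafData.ideal_inf, Pi.inf_apply]
    refine ⟨?_, ?_⟩
    · show c ∈ ((Ih.subschemeι ≫ i).ker).ideal ⟨Q, hQ⟩
      rw [Scheme.Hom.ker_apply, RingHom.mem_ker, Scheme.Hom.comp_app]
      exact RingHom.mem_ker.mp ((Ih.ker_subschemeι_app ⟨_, hiQ⟩).ge hz')
    · rw [ideal_eq_top vB ⟨Q, hQ⟩ fun w hw hwB => Set.disjoint_left.mp hQB hw (hvBsupp.le hwB)]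
      trivial)
  -- the section on `Z`
  let s₁ : Γ(K₁, ⊤) := θi.app ⊤ s
  have hgen₁ : CohB1.genLocus K₁ (TMul.homOf s₁) = i ⁻¹ᵁ CohB1.genLocus M (TMul.homOf s) :=
    genLocus_theta i hM θi hθi s
  obtain ⟨t, ht⟩ := exists_descend hK I hI (TMul.homOf s₁) (fun y => ⟨U y, hxU y, e y, he y, a y, by
    refine tau_eq_zero_of_locally _ _ _ fun z hz => ?_
    by_cases hzC : h.base z ∈ O
    · refine ⟨h ⁻¹ᵁ (U y).1 ⊓ h ⁻¹ᵁ O, inf_le_left, ⟨hz, hzC⟩, tau_eq_zero_of_disjoint Ih K₁ hK₁ _ fun w hw hws => ?_⟩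
      rw [hIhsupp] at hws
      exact hws hw.2
    rcases hσ (i.base z) with ⟨hC, -⟩ | ⟨hB, x', hle', hx'⟩
    · exact absurd ⟨z, hzC, rfl⟩ (Set.disjoint_left.mp hC (hpD _))
    let D' := D (i.base z)
    refine ⟨h ⁻¹ᵁ (U y).1 ⊓ i ⁻¹ᵁ D', inf_le_left, ⟨hz, hpD _⟩, ?_⟩
    let Y := h ⁻¹ᵁ (U y).1 ⊓ i ⁻¹ᵁ D'
    have h1 := tau_map IC M hM i Ih hICle θi hθi _ (hs (i.base z))
    have h1' := congrArg (res _ (inf_le_right : Y ≤ i ⁻¹ᵁ D')) h1
    rw [map_zero, ← tau_res] at h1'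
    let V := (U y).1 ⊓ (U x').1
    have hYV : Y ≤ h ⁻¹ᵁ V := fun w hw => ⟨hw.1, hle' hw.2⟩
    have h2 := tau_map I K hK h Ih le_rfl θh hθh _ (hcompat x' y V inf_le_right inf_le_left)
    have h2' := congrArg (res _ hYV) h2
    rw [map_zero, ← tau_res] at h2'
    have key : res K₁ (inf_le_left : Y ≤ h ⁻¹ᵁ (U y).1) (TMul.val (TMul.homOf s₁) (h ⁻¹ᵁ (U y).1) -
          (h.app (U y).1).hom (a y) • (show Γ(K₁, h ⁻¹ᵁ (U y).1) from θh.app (U y).1 (e y))) =
        res K₁ (inf_le_right : Y ≤ i ⁻¹ᵁ D') (show Γ(K₁, i ⁻¹ᵁ D') from θi.app D' (res M le_top s - σ (i.base z))) +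
        res K₁ hYV (show Γ(K₁, h ⁻¹ᵁ V) from θh.app V (res K inf_le_right (a x' • e x') - res K inf_le_left (a y • e y))) := by
      have f1 : (show Γ(K₁, i ⁻¹ᵁ D') from θi.app D' (res M le_top s - σ (i.base z))) =
          res K₁ le_top s₁ - res K₁ hle' (show Γ(K₁, h ⁻¹ᵁ (U x').1) from θh.app (U x').1 (a x' • e x')) := by
        rw [map_sub, ← app_res, ← hx']
        rfl
      have f2 : (show Γ(K₁, h ⁻¹ᵁ V) from θh.app V (res K inf_le_right (a x' • e x') - res K inf_le_left (a y • e y))) =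
          res K₁ (h.preimage_mono inf_le_right) (show Γ(K₁, h ⁻¹ᵁ (U x').1) from θh.app (U x').1 (a x' • e x')) -
          res K₁ (h.preimage_mono inf_le_left) (show Γ(K₁, h ⁻¹ᵁ (U y).1) from θh.app (U y).1 (a y • e y)) := by
        rw [map_sub, ← app_res, ← app_res]
        rfl
      have f3 : (show Γ(K₁, h ⁻¹ᵁ (U y).1) from θh.app (U y).1 (a y • e y)) =
          (h.app (U y).1).hom (a y) • (show Γ(K₁, h ⁻¹ᵁ (U y).1) from θh.app (U y).1 (e y)) := by
        rw [Scheme.Modules.Hom.app_smul]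
        rfl
      rw [f1, f2, map_sub, map_sub, map_sub, TMul.val_homOf, res_res, res_res, res_res, res_res, res_res,
        f3]
      exact (sub_add_sub_cancel _ _ _).symm
    have hadd : ∀ u v : Γ(K₁, Y), tau Ih K₁ u = 0 → tau Ih K₁ v = 0 → tau Ih K₁ (u + v) = 0 := fun u v hu hv => by
      have := tau_sub Ih K₁ (u + v) v
      rw [add_sub_cancel_right, hu, hv, sub_zero] at this
      exact this.symm
    erw [key]
    exact hadd _ _ h1' h2'⟩)
  -- conclusion
  refine ⟨N', t, ?_, isAffineOpen_of_preimage h ?_⟩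
  · obtain ⟨z, hz⟩ := h.surjective x₁
    have hzC : h.base z ∉ O := fun hO => hx₁ (hz ▸ hO)
    suffices h0 : z ∈ CohB1.genLocus K₁ (TMul.homOf s₁) by
      rw [ht] at h0
      exact hz ▸ h0
    rcases hσ (i.base z) with ⟨hC, -⟩ | ⟨hB, x', hle', hx'⟩
    · exact absurd ⟨z, hzC, rfl⟩ (Set.disjoint_left.mp hC (hpD _))
    have hzU : z ∈ h ⁻¹ᵁ (U x').1 := hle' (hpD _)
    obtain ⟨Y, hY, hzY, hYle⟩ := exists_isAffineOpen_mem_and_subset (x := z)
      (U := i ⁻¹ᵁ D (i.base z)) (hpD _)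
    have hYU : Y ≤ h ⁻¹ᵁ (U x').1 := fun w hw => hle' (hYle hw)
    have h1 := congrArg (res _ (show Y ≤ i ⁻¹ᵁ D (i.base z) from hYle))
      (tau_map IC M hM i Ih hICle θi hθi _ (hs (i.base z)))
    rw [map_zero, ← tau_res] at h1
    have hg : TMul.IsGen (X := Z) (N := K₁) (U := Y)
        (res K₁ hYU (show Γ(K₁, h ⁻¹ᵁ (U x').1) from θh.app (U x').1 (e x'))) := (hθh _ _ (he x')).res hYU
    obtain ⟨b, hb⟩ := (hg Y le_rfl).2 (res K₁ le_top s₁)
    simp only [res_self] at hb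
    let a' := resO Z hYU ((h.app (U x').1).hom (a x'))
    have hmem : b - a' ∈ Ih.ideal ⟨Y, hY⟩ := by
      refine (tau_smul_eq_zero_iff Ih K₁ hY hg _).mp (Eq.trans (congrArg (tau Ih K₁) ?_) h1)
      rw [sub_smul, hb, ← res_smul, map_sub, map_sub, ← app_res]
      refine congrArg₂ (· - ·) ((res_res K₁ _ _ _).symm) (Eq.trans ?_ (congrArg (res K₁ _) hx').symm)
      refine Eq.trans (congrArg (res K₁ hYU) ?_) (res_res K₁ _ _ _).symm
      rw [Scheme.Modules.Hom.app_smul]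
      rfl
    have hwU : w₁ ∈ I.subschemeι ⁻¹ᵁ (U x').1 := by
      show I.subschemeι.base w₁ ∈ (U x').1
      rw [hw₁, ← hz]; exact hzU
    have hval : TMul.val τW (I.subschemeι ⁻¹ᵁ (U x').1) = (I.subschemeι.app (U x').1).hom (a x') •
        (show Γ(KW, I.subschemeι ⁻¹ᵁ (U x').1) from θW.app (U x').1 (e x')) := by
      rw [← ha x', Scheme.Modules.Hom.app_smul]
      rfl
    have hxa : x₁ ∈ X.basicOpen (a x') := by
      have h2 := (TMul.genLocus_inf τW (hθW _ _ (he x')) hval).le ⟨hwU, hτW⟩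
      rw [← Scheme.preimage_basicOpen] at h2
      exact hw₁ ▸ h2
    have hza' : z ∈ Z.basicOpen a' := by
      refine (Z.basicOpen_res _ _).ge ⟨hzY, ?_⟩
      have h2 : z ∈ h ⁻¹ᵁ X.basicOpen (a x') := by
        rw [← hz] at hxa
        exact hxa
      rwa [Scheme.preimage_basicOpen] at h2
    have hzs : z ∈ (Ih.support : Set Z) := by rw [hIhsupp]; exact hzC
    have hnot : z ∉ Z.basicOpen (b - a') := by
      have h2 := (Ih.mem_support_iff_of_mem (U := ⟨Y, hY⟩) hzY).mp hzs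
      rw [Scheme.mem_zeroLocus_iff] at h2
      exact h2 _ hmem
    have hzb : z ∈ Z.basicOpen b := by
      rw [Z.mem_basicOpen _ z hzY] at hnot hza' ⊢
      by_contra hb'
      refine hnot ?_
      have e : Z.presheaf.germ Y z hzY a' =
          Z.presheaf.germ Y z hzY b - Z.presheaf.germ Y z hzY (b - a') := by
        rw [map_sub, sub_sub_cancel]
      rw [e] at hza'
      by_contra hn
      exact (IsLocalRing.mem_maximalIdeal _).mp (Ideal.sub_mem _ ((IsLocalRing.mem_maximalIdeal _).mpr hb')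
        ((IsLocalRing.mem_maximalIdeal _).mpr hn)) hza'
    exact ((TMul.genLocus_inf (TMul.homOf s₁) hg (by rw [TMul.val_homOf, hb])).ge hzb).2
  · rw [← ht, hgen₁]
    have hDB : Disjoint ((CohB1.genLocus M (TMul.homOf s) : P.Opens) : Set P) B :=
      Set.disjoint_left.mpr fun p hp hpB => by
        rcases hσ p with ⟨hC, h0⟩ | ⟨hB, -⟩
        swap
        · exact Set.disjoint_left.mp hB (hpD p) hpB
        obtain ⟨V₀, f₀, hpV₀, hf₀⟩ := TMul.exists_isGen hM p
        obtain ⟨Q, hQ, hpQ, hQle⟩ := exists_isAffineOpen_mem_and_subset (x := p) (U := V₀ ⊓ D p) ⟨hpV₀, hpD p⟩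
        have hf := hf₀.res (show Q ≤ V₀ from fun w hw => (hQle hw).1)
        obtain ⟨c, hc⟩ := (hf Q le_rfl).2 (res M le_top s)
        simp only [res_self] at hc
        have h1 := congrArg (res _ (show Q ≤ D p from fun w hw => (hQle hw).2)) (hs p)
        rw [map_zero, ← tau_res, h0, sub_zero, res_res, ← hc, tau_smul_eq_zero_iff IC M hQ hf] at h1
        have hpc := (TMul.genLocus_inf (TMul.homOf s) hf (by rw [TMul.val_homOf, hc])).le ⟨hpQ, hp⟩
        have hps : p ∈ (vB.support : Set P) := hvBsupp.ge hpB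
        have h2 := (vB.mem_support_iff_of_mem (U := ⟨Q, hQ⟩) hpQ).mp hps
        rw [Scheme.mem_zeroLocus_iff] at h2
        rw [Scheme.IdealSheafData.ideal_inf, Pi.inf_apply] at h1
        exact h2 c h1.2 hpc
    exact (immersion_app_surjective i
      (TMul.isAffineOpen_genLocus_of_universallyClosed qP (TMul.isAmple_tensorPow hO₁
        (Nat.mul_pos (Nat.succ_pos _) (Nat.succ_pos _))) (TMul.homOf s)) (hav _ hDB)).1

/-- Ampleness descends along a finite birational morphism that is an isomorphism off a proper subset. -/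
theorem isAmple_of_birational (q : X ⟶ Spec (CommRingCat.of R)) [LocallyOfFiniteType q] [QuasiCompact q]
    [IsReduced X] [IsReduced Z] (h : Z ⟶ X) [IsFinite h] [Surjective h] (O : X.Opens) [IsIso (h ∣_ O)]
    (hprop : IsProper ((Jc O).subschemeι ≫ q)) {L : X.Modules} (hL : PicF.IsInvertible L)
    (hZA : CohB1.IsAmple ((Scheme.Modules.pullback h).obj L))
    (hCA : CohB1.IsAmple ((Scheme.Modules.pullback (Jc O).subschemeι).obj L)) : CohB1.IsAmple L := by
  haveI : IsLocallyNoetherian X := LocallyOfFiniteType.isLocallyNoetherian q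
  haveI : CompactSpace X := QuasiCompact.compactSpace_of_compactSpace q
  haveI : IsNoetherian X := ⟨⟩
  haveI : Z.IsSeparated := TMul.isSeparated_of_isAmple hZA
  haveI : X.IsSeparated := AbsApprox.isSeparated_of_surjective h
  obtain ⟨m, hm, hI⟩ := exists_conductor h O
  refine ⟨hL, inferInstance, fun x => ?_⟩
  by_cases hx : x ∈ O
  · exact exists_section_off h O hL hZA ((Jc O) ^ m)
      (by rw [Scheme.IdealSheafData.support_pow _ _ hm.ne', support_Jc]) hI x hx
  · exact exists_section_on q h O hprop hL hZA hCA hm hI x hx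

end Groth.Agent.FinBirat
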