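import Groth.Agent.NormAmple.NormalNorm

/-!
Dense opens over which a finite morphism is normal or free, and norms with their defining property.
-/

set_option autoImplicit false
set_option backward.isDefEq.respectTransparency false
set_option linter.style.haveILetI false
set_option linter.unusedSectionVars false

universe u

open CategoryTheory CategoryTheory.Limits AlgebraicGeometry TopologicalSpace Opposite Module
open Groth.Agent.QC (res resO res_res res_self res_smul resO_resO resO_self app_res)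
open Groth.Agent.NormAmple

noncomputable section

namespace Groth.Agent.FinBirat

open Groth.Agent

variable {X' X : Scheme.{u}} {g : X' ⟶ X}

variable (g) in
/-- The point is normal, or it has a neighbourhood over which `g` is free. -/
def NormalOrFreeAt (x : X) : Prop :=
  (IsDomain (X.presheaf.stalk x) ∧ IsIntegrallyClosed (X.presheaf.stalk x)) ∨
    ∃ (W : X.Opens) (n : ℕ), x ∈ W ∧ IsFreeOpen g W n

theorem normalOrFree_restrict [IsAffineHom g] (U : X.Opens) (h : ∀ x ∈ U, NormalOrFreeAt g x) :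
    NormalOrFree (g ∣_ U) := fun x => by
  rcases h (U.ι x) x.2 with ⟨h1, h2⟩ | ⟨W₀, n, hxW, hn, hW, hb⟩
  · refine Or.inl ?_
    let e := (U.stalkIso x).commRingCatIsoToRingEquiv
    haveI := h1
    haveI := h2
    exact ⟨e.toMulEquiv.isDomain_iff.mpr h1, @IsIntegrallyClosed.of_equiv _ _ _ _ e.symm h2⟩
  · refine Or.inr ?_
    obtain ⟨r, hrU, hxr⟩ := hW.exists_basicOpen_le ⟨U.ι x, x.2⟩ hxW
    obtain ⟨⟨hWa, n', hn', -, hb'⟩, -⟩ := good_basicOpen g n (W := W₀) ⟨hW, n, hn, dvd_rfl, hb⟩ r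
    have e : U.ι ''ᵁ (U.ι ⁻¹ᵁ X.basicOpen r) = X.basicOpen r := by
      rw [Scheme.Hom.image_preimage_eq_opensRange_inf, Scheme.Opens.opensRange_ι, inf_eq_right.mpr hrU]
    refine ⟨U.ι ⁻¹ᵁ X.basicOpen r, n', hxr, hn',
      (U.ι.isAffineOpen_iff_of_isOpenImmersion).mp (by rw [e]; exact hWa), ?_⟩
    have key := basis_appLE e (image_morphismRestrict_preimage g U (U.ι ⁻¹ᵁ X.basicOpen r)) hb'
    rw [← morphismRestrict_app'] at key
    exact key

theorem normalOrFreeAt_of_locallyFree [Surjective g] {x : X} {T : X.Opens} (hxT : x ∈ T)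
    (hfree : FlatMod.IsFinLocFree (((Coh.push g).obj (Coh.structureModule X')).restrict T.ι)) :
    NormalOrFreeAt g x := by
  obtain ⟨U, n, hxU, ⟨e⟩⟩ := hfree ⟨x, hxT⟩
  let V := T.ι ''ᵁ U
  let k : V.toScheme ⟶ U.toScheme := (T.ι.isoImage U).inv
  let M := (Coh.push g).obj (Coh.structureModule X')
  obtain ⟨e₁⟩ := TMul.nonempty_restrictRestrictIso T.ι (k ≫ U.ι) V.ι
    (by rw [Category.assoc]; exact Scheme.Hom.isoImage_inv_ι _ _) M
  let eV : M.restrict V.ι ≅ FlatMod.freeMod V.toScheme n :=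
    e₁.symm ≪≫ (Scheme.Modules.restrictFunctorComp k U.ι).app _ ≪≫
      (Scheme.Modules.restrictFunctor k).mapIso e ≪≫
      (Scheme.Modules.restrictFunctorIsoPullback k).app _ ≪≫ Groth.Agent.DerPerf.pullFreeIso k n
  have hxV : x ∈ V := ⟨⟨x, hxT⟩, hxU, rfl⟩
  obtain ⟨W, hW', hxW, hWV⟩ := exists_isAffineOpen_mem_and_subset hxV
  exact Or.inr ⟨W, n, hxW, (free_sections g eV hW' hWV hxW).1, hW', (free_sections g eV hW' hWV hxW).2⟩

variable (g) in
/-- Every open contains a free open. -/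
theorem exists_free_le [IsNoetherian X] [IsReduced X] [IsFinite g] [Surjective g] (O : X.Opens)
    (hO : (O : Set X).Nonempty) :
    ∃ (W : X.Opens) (n : ℕ), W ≤ O ∧ (W : Set X).Nonempty ∧ IsFreeOpen g W n := by
  classical
  obtain ⟨x, hx⟩ := hO
  let C := irreducibleComponent x
  have hCmem : C ∈ irreducibleComponents X := irreducibleComponent_mem_irreducibleComponents x
  -- the part of `O` outside the other components
  let O₁ : X.Opens := O ⊓ ⟨(⋃₀ (irreducibleComponents X \ {C}))ᶜ,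
    (Set.sUnion_eq_biUnion ▸ (TopologicalSpace.NoetherianSpace.finite_irreducibleComponents.diff).isClosed_biUnion
      fun D hD => isClosed_of_mem_irreducibleComponents D hD.1).isOpen_compl⟩
  obtain ⟨η, hη⟩ := QuasiSober.sober hCmem.1 (isClosed_of_mem_irreducibleComponents C hCmem)
  have hηO₁ : η ∈ O₁ := by
    refine ⟨(hη.specializes mem_irreducibleComponent).mem_open O.2 hx, fun ⟨D, ⟨hD, hDC⟩, hηD⟩ => hDC ?_⟩
    have : C ⊆ D := hη.def ▸ closure_minimal (Set.singleton_subset_iff.mpr hηD)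
      (isClosed_of_mem_irreducibleComponents D hD)
    exact (hCmem.2 hD.1 this).antisymm this
  have hsub : (O₁ : Set X) ⊆ C := fun y hy => by
    by_contra hyC
    exact hy.2 ⟨irreducibleComponent y, ⟨irreducibleComponent_mem_irreducibleComponents y,
      fun h => hyC (h ▸ mem_irreducibleComponent)⟩, mem_irreducibleComponent⟩
  obtain ⟨W, hW, hηW, hWO⟩ := exists_isAffineOpen_mem_and_subset (x := η) (U := O₁) hηO₁
  haveI : Nonempty W := ⟨⟨η, hηW⟩⟩
  haveI : IsIntegral W.toScheme := by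
    haveI : IrreducibleSpace W := by
      have hirr : IsPreirreducible (W : Set X) := by
        intro u v hu hv ⟨a, haW, hau⟩ ⟨b, hbW, hbv⟩
        exact ⟨η, hηW, (hη.specializes (hsub (hWO haW))).mem_open hu hau,
          (hη.specializes (hsub (hWO hbW))).mem_open hv hbv⟩
      haveI : PreirreducibleSpace W := Subtype.preirreducibleSpace hirr
      exact ⟨inferInstance⟩
    haveI : IsReduced W.toScheme := isReduced_of_isOpenImmersion W.ι
    exact isIntegral_of_irreducibleSpace_of_isReduced _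
  haveI hd : IsDomain Γ(X, W) :=
    MulEquiv.isDomain Γ(W.toScheme, ⊤) W.topIso.symm.commRingCatIsoToRingEquiv.toMulEquiv
  obtain ⟨r, n, hr, hn, hb⟩ := exists_free_of_domain (g := g) hW hd
  refine ⟨X.basicOpen r, n, (X.basicOpen_le r).trans (hWO.trans inf_le_left), ?_, hn, hW.basicOpen r, hb⟩
  rw [Set.nonempty_iff_ne_empty]
  exact fun h => hr ((AlgebraicGeometry.basicOpen_eq_bot_iff _).mp (Opens.ext h))

variable (g) in
/-- A dense open containing `W` over which every point is normal or free. -/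
theorem exists_dense_open [IsNoetherian X] [IsReduced X] [IsFinite g] [Surjective g] (W : X.Opens)
    (hW : ∀ x ∈ W, NormalOrFreeAt g x) :
    ∃ O : X.Opens, W ≤ O ∧ Dense (O : Set X) ∧ ∀ x ∈ O, NormalOrFreeAt g x := by
  refine ⟨W ⊔ ⨆ (V : {V : X.Opens // ∃ n, IsFreeOpen g V n}), V.1, le_sup_left, ?_, fun x hx => ?_⟩
  · rw [dense_iff_inter_open]
    intro U hU hne
    obtain ⟨V, n, hVU, ⟨y, hy⟩, hV⟩ := exists_free_le g ⟨U, hU⟩ hne
    exact ⟨y, hVU hy, le_sup_right (a := W) (Opens.mem_iSup.mpr ⟨⟨V, n, hV⟩, hy⟩)⟩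
  · rcases hx with hx | hx
    · exact hW x hx
    · obtain ⟨⟨V, n, hV⟩, hxV⟩ := Opens.mem_iSup.mp hx
      exact Or.inr ⟨V, n, hxV, hV⟩

/-- A norm map together with its defining property. -/
theorem exists_normMap_spec [IsNoetherian X] [IsReduced X] [IsFinite g] [Surjective g]
    (h : NormalOrFree g) :
    ∃ D, 0 < D ∧ (∀ O : X.Opens, (O : Set X).Nonempty → ∃ W, W ≤ O ∧ (W : Set X).Nonempty ∧ Good g D W) ∧
      ∃ N : NormMap g D, ∀ V a, IsNorm g D a (N.ν V a) := by
  classical
  obtain ⟨D, hD, hfree, hdense⟩ := exists_degree h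
  have hloc : ∀ (V : X.Opens) (a : Γ(X', g ⁻¹ᵁ V)) (y : X), y ∈ V →
      ∃ (W : X.Opens) (hWV : W ≤ V) (_ : y ∈ W) (t : Γ(X, W)),
        IsNorm g D (resO X' (g.preimage_mono hWV) a) t ∧
        (y ∈ X.basicOpen t → ∃ x', g.base x' = y ∧ x' ∈ X'.basicOpen a) := by
    intro V a y hy
    rcases h y with hnor | ⟨W, n, hyW, hn, hW, hb⟩
    · exact exists_local_norm hD hdense a hy hnor
    · obtain ⟨r, hrV, hyr⟩ := hW.exists_basicOpen_le ⟨y, hy⟩ hyW
      have hG := (good_basicOpen g D (hfree W n ⟨hn, hW, hb⟩ ⟨y, hyW⟩) r).1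
      have ht : IsNorm g D (resO X' (g.preimage_mono hrV) a)
          (νloc g D _ (resO X' (g.preimage_mono hrV) a)) := fun W' hW' hG' => by
        have key := congrArg (resO X (le_inf hW' le_rfl)) (νloc_compat hG hG' hrV (hW'.trans hrV) a)
        rw [resO_resO, resO_resO, QC.resO_self] at key
        rw [key]
        exact congrArg _ (resO_resO _ _ a).symm
      refine ⟨_, hrV, hyr, _, ht, fun hyb => ?_⟩
      obtain ⟨x', hx', hxa⟩ := exists_mem_of_good hD ht hG hyr hyb
      exact ⟨x', hx', QC.basicOpen_resO_le _ a hxa⟩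
  have hE : ∀ (V : X.Opens) (a : Γ(X', g ⁻¹ᵁ V)), ∃! t : Γ(X, V), IsNorm g D a t := by
    intro V a
    choose W hWV hyW t ht _ using fun y : V => hloc V a y.1 y.2
    obtain ⟨T, hT, -⟩ := X.sheaf.existsUnique_gluing' W V (fun y => homOfLE (hWV y))
      (fun y hy => Opens.mem_iSup.mpr ⟨⟨y, hy⟩, hyW _⟩) t (fun i j => by
        show resO X (inf_le_left : W i ⊓ W j ≤ W i) (t i) = resO X (inf_le_right : W i ⊓ W j ≤ W j) (t j)
        refine eq_of_isNorm hdense (a := resO X' (g.preimage_mono (inf_le_left.trans (hWV i))) a) ?_ ?_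
        · have := (ht i).restrict (inf_le_left : W i ⊓ W j ≤ W i)
          rwa [resO_resO] at this
        · have := (ht j).restrict (inf_le_right : W i ⊓ W j ≤ W j)
          rwa [resO_resO] at this)
    have hnorm : IsNorm g D a T := fun W' hW' hG' => by
      choose r hr hyr using fun z : W' =>
        hG'.1.exists_basicOpen_le (V := W ⟨z.1, hW' z.2⟩) ⟨z.1, hyW _⟩ z.2
      refine X.sheaf.eq_of_locally_eq' (fun z : W' => X.basicOpen (r z)) W'
        (fun z => homOfLE (X.basicOpen_le _)) (fun z hz => Opens.mem_iSup.mpr ⟨⟨z, hz⟩, hyr _⟩) _ _ fun z => ?_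
      show resO X (X.basicOpen_le (r z)) (resO X hW' T) = resO X (X.basicOpen_le (r z)) (νloc g D W' _)
      obtain ⟨hG, hν⟩ := good_basicOpen g D hG' (r z)
      rw [← hν, resO_resO, ← resO_resO (hr z) (hWV _), show resO X (hWV _) T = t _ from hT _,
        ht _ _ (hr z) hG, resO_resO, resO_resO]
    exact ⟨T, hnorm, fun T' hT' => eq_of_isNorm hdense hT' hnorm⟩
  refine ⟨D, hD, hdense, normMapOfUnique hE fun V a y hy hyb => ?_, fun V a => (hE V a).choose_spec.1⟩
  obtain ⟨W, hWV, hyW, t, ht, hex⟩ := hloc V a y hy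
  refine hex ?_
  rw [eq_of_isNorm hdense ht ((hE V a).choose_spec.1.restrict hWV)]
  exact (X.basicOpen_res _ _).ge ⟨hyW, hyb⟩

end Groth.Agent.FinBirat
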