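import Groth.Agent.FinBirat.Modif
import Groth.Agent.FinBirat.Bound

/-!
A finite birational model carrying norms of functions.
-/

set_option autoImplicit false
set_option backward.isDefEq.respectTransparency false
set_option backward.isDefEq.respectTransparency.types false
set_option linter.style.haveILetI false
set_option linter.unusedSectionVars false

universe u

open CategoryTheory CategoryTheory.Limits AlgebraicGeometry TopologicalSpace Opposite Module
open Groth.Agent.QC (res resO res_res res_self res_smul resO_resO resO_self app_res)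
open Groth.Agent.NormAmple

noncomputable section

namespace Groth.Agent.FinBirat

open Groth.Agent

/-- Norms of functions on `X'` with values on `Z` over affine opens of `X`. -/
structure NormTo {X' X Z : Scheme.{u}} (g : X' ⟶ X) (h : Z ⟶ X) (D : ℕ) where
  ν : ∀ U : X.affineOpens, Γ(X', g ⁻¹ᵁ U.1) →* Γ(Z, h ⁻¹ᵁ U.1)
  ν_res : ∀ {W U : X.affineOpens} (hle : W.1 ≤ U.1) (a : Γ(X', g ⁻¹ᵁ U.1)),
    ν W (resO X' (g.preimage_mono hle) a) = resO Z (h.preimage_mono hle) (ν U a)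
  ν_app : ∀ (U : X.affineOpens) (c : Γ(X, U.1)), ν U ((g.app U.1).hom c) = (h.app U.1).hom c ^ D
  mem_basicOpen : ∀ (U : X.affineOpens) (a : Γ(X', g ⁻¹ᵁ U.1)) (z : Z), z ∈ h ⁻¹ᵁ U.1 →
    (∀ x', g.base x' = h.base z → x' ∈ X'.basicOpen a) → z ∈ Z.basicOpen (ν U a)
  exists_mem : ∀ (U : X.affineOpens) (a : Γ(X', g ⁻¹ᵁ U.1)) (z : Z), z ∈ Z.basicOpen (ν U a) →
    ∃ x', g.base x' = h.base z ∧ x' ∈ X'.basicOpen a

variable {X' X : Scheme.{u}} {g : X' ⟶ X}

set_option maxHeartbeats 1600000 in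
/-- Norms take values on a finite birational modification. -/
theorem exists_model [IsNoetherian X] [IsReduced X] [IsFinite g] [Surjective g] (W : X.Opens)
    (hW : ∀ x ∈ W, NormalOrFreeAt g x) :
    ∃ (O : X.Opens) (Z : Scheme.{u}) (h : Z ⟶ X) (_ : IsFinite h) (_ : IsReduced Z),
      W ≤ O ∧ Dense (O : Set X) ∧ Dense ((h ⁻¹ᵁ O : Z.Opens) : Set Z) ∧ IsIso (h ∣_ O) ∧
      ∃ D, 0 < D ∧ Nonempty (NormTo g h D) := by
  classical
  obtain ⟨O, hWO, hO, hOP⟩ := exists_dense_open g W hW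
  haveI : CompactSpace O.toScheme := isCompact_iff_compactSpace.mp (NoetherianSpace.isCompact (O : Set X))
  haveI : IsNoetherian O.toScheme := ⟨⟩
  haveI : IsReduced O.toScheme := isReduced_of_isOpenImmersion O.ι
  haveI : IsFinite (g ∣_ O) := IsZariskiLocalAtTarget.restrict ‹_› _
  haveI : Surjective (g ∣_ O) := IsZariskiLocalAtTarget.restrict ‹_› _
  obtain ⟨D, hD, hdense, N, hN⟩ := exists_normMap_spec (normalOrFree_restrict O hOP)
  obtain ⟨m, hm0, hm⟩ := exists_bound N hN hdense hO hD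
  have hsupp : (((Jc O) ^ m).support : Set X) = (O : Set X)ᶜ := by
    rw [Scheme.IdealSheafData.support_pow _ _ hm0.ne', support_Jc]
  obtain ⟨Z, h, hfin, hred, k, hk, hkh, hkd, hkr, hiso, hlift⟩ :=
    exists_modif O ((Jc O) ^ m) hsupp (exists_regular hdense m)
  have hpre : ∀ U : X.Opens, O.ι ⁻¹ᵁ U = k ⁻¹ᵁ (h ⁻¹ᵁ U) := fun U => by
    rw [← Scheme.Hom.comp_preimage, hkh]
  let kk : ∀ U : X.Opens, Γ(Z, h ⁻¹ᵁ U) →+* Γ(O.toScheme, O.ι ⁻¹ᵁ U) := fun U =>
    (k.appLE (h ⁻¹ᵁ U) (O.ι ⁻¹ᵁ U) (hpre U).le).hom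
  have hkinj : ∀ U, Function.Injective (kk U) := fun U => appLE_injective_of_denseRange k hkd _ _ (hpre U)
  have hkapp : ∀ (U : X.Opens) (c : Γ(X, U)), kk U ((h.app U).hom c) = O.ι.app U c := fun U c => by
    have e : h.app U ≫ k.appLE (h ⁻¹ᵁ U) (O.ι ⁻¹ᵁ U) (hpre U).le = O.ι.app U := by
      rw [Scheme.Hom.app_eq_appLE, Scheme.Hom.appLE_comp_appLE, Scheme.Hom.app_eq_appLE]
      simp only [hkh]
    exact congr(($e).hom c)
  have hkres : ∀ {V U : X.Opens} (hle : V ≤ U) (t : Γ(Z, h ⁻¹ᵁ U)),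
      kk V (resO Z (h.preimage_mono hle) t) = resO O.toScheme (O.ι.preimage_mono hle) (kk U t) :=
    fun {V U} hle t =>
      (congr(($(Scheme.Hom.map_appLE k (hpre V).le (homOfLE (h.preimage_mono hle)).op)).hom t)).trans
        (congr(($(Scheme.Hom.appLE_map k (hpre U).le (homOfLE (O.ι.preimage_mono hle)).op)).hom t)).symm
  have hex : ∀ (U : X.affineOpens) (a : Γ(X', g ⁻¹ᵁ U.1)), ∃ t, kk U.1 t = nU N U.1 a := fun U a =>
    hlift U _ ((integral_and_fg N hN hdense hD U).1 a) (hm U a) (hpre U.1).le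
  choose t ht using hex
  let ν : ∀ U : X.affineOpens, Γ(X', g ⁻¹ᵁ U.1) →* Γ(Z, h ⁻¹ᵁ U.1) := fun U =>
    { toFun := t U
      map_one' := hkinj _ (by rw [ht, map_one, map_one])
      map_mul' := fun a b => hkinj _ (by rw [ht, map_mul, map_mul, ht, ht]) }
  have hν : ∀ U a, kk U.1 (ν U a) = nU N U.1 a := ht
  have hres : ∀ {V U : X.affineOpens} (hle : V.1 ≤ U.1) (a : Γ(X', g ⁻¹ᵁ U.1)),
      ν V (resO X' (g.preimage_mono hle) a) = resO Z (h.preimage_mono hle) (ν U a) := fun {V U} hle a =>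
    hkinj _ (by rw [hν, hkres hle, hν, nU_res N hle])
  have hdZ : Dense ((h ⁻¹ᵁ O : Z.Opens) : Set Z) := by
    rw [← hkr, Scheme.Hom.coe_opensRange]
    exact hkd
  refine ⟨O, Z, h, hfin, hred, hWO, hO, hdZ, hiso, D, hD,
    ⟨{ ν := ν, ν_res := hres, ν_app := fun U c => hkinj _ ?_, mem_basicOpen := ?_, exists_mem := ?_ }⟩⟩
  · rw [hν, map_pow, hkapp]
    exact nU_app N _ c
  · intro U a z hz hfib
    have hcl : IsClosed (g.base '' ((X'.basicOpen a : Set X')ᶜ)) :=
      g.isClosedMap _ (X'.basicOpen a).2.isClosed_compl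
    obtain ⟨r, hr, hzr⟩ := U.2.exists_basicOpen_le (V := U.1 ⊓ ⟨_, hcl.isOpen_compl⟩)
      ⟨h.base z, hz, fun ⟨x', hx', e⟩ => hx' (hfib x' e)⟩ hz
    let B : X.affineOpens := ⟨X.basicOpen r, U.2.basicOpen r⟩
    have hBU : B.1 ≤ U.1 := X.basicOpen_le r
    have h1 : IsUnit (resO X' (g.preimage_mono hBU) a) := by
      have hle : g ⁻¹ᵁ B.1 ≤ X'.basicOpen a := fun x' hx' => by
        by_contra hc
        exact (hr hx').2 ⟨x', hc, rfl⟩
      rw [← resO_resO hle (X'.basicOpen_le a)]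
      exact (RingedSpace.isUnit_res_basicOpen _ a).map _
    have h2 := h1.map (ν B)
    rw [hres hBU] at h2
    exact QC.basicOpen_resO_le _ _ ((Z.basicOpen_of_isUnit h2).ge (show h.base z ∈ B.1 from hzr))
  · intro U a z hzb
    by_contra! hno
    have hzU : z ∈ h ⁻¹ᵁ U.1 := Z.basicOpen_le _ hzb
    have hWU : IsAffineOpen (h ⁻¹ᵁ U.1) := U.2.preimage h
    let R := Γ(Z, h ⁻¹ᵁ U.1)
    let q : Ideal R := (hWU.primeIdealOf ⟨z, hzU⟩).asIdeal
    have hqt : ν U a ∉ q := by
      have h2 : hWU.primeIdealOf ⟨z, hzU⟩ ∈ hWU.fromSpec ⁻¹ᵁ Z.basicOpen (ν U a) := by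
        show hWU.fromSpec (hWU.primeIdealOf ⟨z, hzU⟩) ∈ Z.basicOpen (ν U a)
        rw [hWU.fromSpec_primeIdealOf ⟨z, hzU⟩]
        exact hzb
      rwa [hWU.fromSpec_preimage_basicOpen] at h2
    obtain ⟨ι, hι, P, hP, hPp, hinj⟩ := exists_pieces hdense (O.ι ⁻¹ᵁ U.1)
    haveI := Fintype.ofFinite ι
    haveI := fun i => (hPp i).2
    let L := fun i => AlgebraicClosure (FractionRing Γ(O.toScheme, P i))
    let φ : ∀ i, Γ(O.toScheme, P i) →+* L i := fun i =>
      (algebraMap (FractionRing Γ(O.toScheme, P i)) (L i)).comp (algebraMap _ _)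
    have hφ : ∀ i, Function.Injective (φ i) := fun i =>
      (algebraMap (FractionRing Γ(O.toScheme, P i)) (L i)).injective.comp
        (IsFractionRing.injective Γ(O.toScheme, P i) (FractionRing Γ(O.toScheme, P i)))
    let Ψ : ∀ i, R →+* L i := fun i => ((φ i).comp (resO O.toScheme (hP i))).comp (kk U.1)
    obtain ⟨i, hi⟩ : ∃ i, RingHom.ker (Ψ i) ≤ q := by
      have hbot : (Finset.univ.inf fun i => RingHom.ker (Ψ i)) ≤ q := fun s hs => by
        have h0 : s = 0 := hkinj _ (((hinj _ fun i => hφ i ((RingHom.mem_ker.mp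
          (Submodule.mem_finsetInf.mp hs i (Finset.mem_univ i))).trans (map_zero _).symm))).trans
            (map_zero _).symm)
        rw [h0]; exact zero_mem q
      obtain ⟨i, -, hi⟩ := ((hWU.primeIdealOf ⟨z, hzU⟩).isPrime.inf_le' (s := Finset.univ)).mp hbot
      exact ⟨i, hi⟩
    let A := Γ(X, U.1)
    let B := Γ(X', g ⁻¹ᵁ U.1)
    letI : Algebra A (L i) := ((Ψ i).comp (h.app U.1).hom).toAlgebra
    letI : Algebra A R := (h.app U.1).hom.toAlgebra
    letI : Algebra A B := (g.app U.1).hom.toAlgebra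
    haveI : Module.Finite A R := IsFinite.finite_app h U.1 U.2
    haveI : Module.Finite A B := IsFinite.finite_app g U.1 U.2
    let S := integralClosure A (L i)
    let ψ' : R →ₐ[A] L i := { Ψ i with commutes' := fun _ => rfl }
    let ψ : R →ₐ[A] S := ψ'.codRestrict S fun x =>
      (Algebra.IsIntegral.isIntegral (R := A) x).map ψ'
    letI : Algebra R S := ψ.toRingHom.toAlgebra
    haveI : IsScalarTower A R S := IsScalarTower.of_algebraMap_eq fun c => (ψ.commutes c).symm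
    haveI : Algebra.IsIntegral A S := integralClosure.AlgebraIsIntegral
    haveI : Algebra.IsIntegral R S := Algebra.IsIntegral.tower_top (R := A)
    haveI : q.IsPrime := (hWU.primeIdealOf ⟨z, hzU⟩).isPrime
    obtain ⟨Q, -, hQ, hQq⟩ := Ideal.exists_ideal_over_prime_of_isIntegral q (⊥ : Ideal S) (fun x hx => by
      refine hi (RingHom.mem_ker.mpr ?_)
      exact congrArg Subtype.val (show ψ x = 0 from Ideal.mem_bot.mp hx))
    haveI := hQ
    obtain ⟨s, e, hs0, he0, hs, heq⟩ := exists_chars N hN hD (hP i) (hPp i).1 (φ i) a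
    have hmem : ∀ χ ∈ s, ∀ (b : B), IsIntegral A (χ b) := fun χ hχ b => by
      let χ' : B →ₐ[A] L i := { χ with
        commutes' := fun c => by
          refine (congr($(hs χ hχ) c)).trans ?_
          show φ i (resO _ _ (O.ι.app U.1 c)) = φ i (resO _ _ (kk U.1 ((h.app U.1).hom c)))
          rw [hkapp] }
      exact (Algebra.IsIntegral.isIntegral (R := A) b).map χ'
    have hall : ∀ χ (hχ : χ ∈ s), (⟨χ a, hmem χ hχ a⟩ : S) ∈ Q := fun χ hχ => by
      let χS : B →+* S := (χ : B →+* L i).codRestrict S.toSubring (hmem χ hχ)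
      haveI : (Q.comap χS).IsPrime := Ideal.IsPrime.comap χS
      let p' : PrimeSpectrum B := ⟨Q.comap χS, inferInstance⟩
      let x' : X' := (U.2.preimage g).fromSpec p'
      have hcomp : χS.comp (g.app U.1).hom = (algebraMap A S) := RingHom.ext fun c => Subtype.ext (by
        refine (congr($(hs χ hχ) c)).trans ?_
        show φ i (resO _ _ (O.ι.app U.1 c)) = φ i (resO _ _ (kk U.1 ((h.app U.1).hom c)))
        rw [hkapp])
      have hQA : Q.comap (algebraMap A S) = q.comap (h.app U.1).hom := by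
        rw [IsScalarTower.algebraMap_eq A R S, ← Ideal.comap_comap, hQq]
        rfl
      have e1 : (Spec.map (g.appLE U.1 (g ⁻¹ᵁ U.1) le_rfl)).base p' =
          (Spec.map (h.appLE U.1 (h ⁻¹ᵁ U.1) le_rfl)).base (hWU.primeIdealOf ⟨z, hzU⟩) := by
        refine PrimeSpectrum.ext ?_
        show (Q.comap χS).comap (g.appLE U.1 (g ⁻¹ᵁ U.1) le_rfl).hom =
          q.comap (h.appLE U.1 (h ⁻¹ᵁ U.1) le_rfl).hom
        rw [Scheme.Hom.appLE_eq_app, Scheme.Hom.appLE_eq_app, Ideal.comap_comap, hcomp, hQA]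
      have hx' : g.base x' = h.base z := by
        show (((U.2.preimage g).fromSpec ≫ g).base p' : X) = h.base z
        rw [← IsAffineOpen.SpecMap_appLE_fromSpec g U.2 (U.2.preimage g) le_rfl]
        show U.2.fromSpec.base ((Spec.map (g.appLE U.1 (g ⁻¹ᵁ U.1) le_rfl)).base p') = h.base z
        rw [e1, ← Scheme.Hom.comp_apply, IsAffineOpen.SpecMap_appLE_fromSpec h U.2 hWU le_rfl,
          Scheme.Hom.comp_apply, hWU.fromSpec_primeIdealOf ⟨z, hzU⟩]
      by_contra hna
      have hxa : p' ∈ (U.2.preimage g).fromSpec ⁻¹ᵁ X'.basicOpen a := by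
        rw [(U.2.preimage g).fromSpec_preimage_basicOpen]
        exact hna
      exact hno x' hx' hxa
    refine hqt (hQq.le ?_)
    show ψ (ν U a) ∈ Q
    have hval : ψ (ν U a) = ((s.attach.map fun χ => (⟨χ.1 a, hmem χ.1 χ.2 a⟩ : S))).prod ^ e := by
      refine Subtype.ext ?_
      show φ i (resO _ _ (kk U.1 (ν U a))) = _
      rw [hν, heq, SubmonoidClass.coe_pow]
      refine congrArg (· ^ e) ?_
      refine Eq.trans ?_ (map_multiset_prod S.val _).symm
      rw [Multiset.map_map]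
      exact congrArg Multiset.prod (Multiset.attach_map_val' s fun χ => χ a).symm
    rw [hval]
    refine Ideal.pow_mem_of_mem Q ?_ e he0
    obtain ⟨χ, hχ⟩ := Multiset.exists_mem_of_ne_zero hs0
    exact Ideal.mem_of_dvd Q (Multiset.dvd_prod (Multiset.mem_map.mpr ⟨⟨χ, hχ⟩, Multiset.mem_attach _ _, rfl⟩))
      (hall χ hχ)

end Groth.Agent.FinBirat
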