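import Groth.Agent.FinBirat.Model
import Groth.Agent.NormAmple.Descend

/-!
Ampleness passes to the model carrying the norms.
-/

set_option autoImplicit false
set_option backward.isDefEq.respectTransparency false
set_option linter.style.haveILetI false
set_option linter.unusedSectionVars false

universe u

open CategoryTheory CategoryTheory.Limits AlgebraicGeometry TopologicalSpace Opposite
open Groth.Agent.QC (res resO res_res res_self res_smul resO_resO app_res)

noncomputable section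

namespace Groth.Agent.FinBirat

open Groth.Agent

variable {X' X Z : Scheme.{u}} {g : X' ⟶ X} {h : Z ⟶ X}

set_option maxHeartbeats 1600000 in
/-- A section of the inverse image has a norm on the model. -/
theorem exists_norm_section {D : ℕ} (N : NormTo g h D) {K : X.Modules} (hK : PicF.IsInvertible K)
    (σ : Coh.structureModule X' ⟶ (Scheme.Modules.pullback g).obj K) :
    ∃ T : Coh.structureModule Z ⟶ CohB1.tensorPow ((Scheme.Modules.pullback h).obj K) D,
      ∀ z : Z, ((∀ x', g.base x' = h.base z → x' ∈ CohB1.genLocus _ σ) → z ∈ CohB1.genLocus _ T) ∧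
        (z ∈ CohB1.genLocus _ T → ∃ x', g.base x' = h.base z ∧ x' ∈ CohB1.genLocus _ σ) := by
  classical
  have hK' : PicF.IsInvertible ((Scheme.Modules.pullback g).obj K) := PicLoc.isInvertible_pullback g hK
  have hKh : PicF.IsInvertible ((Scheme.Modules.pullback h).obj K) := PicLoc.isInvertible_pullback h hK
  let K' := (Scheme.Modules.pullback g).obj K
  let Kh := (Scheme.Modules.pullback h).obj K
  let θ : K ⟶ (Scheme.Modules.pushforward g).obj K' := SymAlg.pullθ g (Iso.refl _)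
  let θh : K ⟶ (Scheme.Modules.pushforward h).obj Kh := SymAlg.pullθ h (Iso.refl _)
  have hgen : ∀ y : X, ∃ U : X.affineOpens, y ∈ U.1 ∧ ∃ e : Γ(K, U.1), TMul.IsGen e := fun y => by
    obtain ⟨U, e, hyU, he⟩ := TMul.exists_isGen hK y
    obtain ⟨V, hV, hyV, hVU⟩ := exists_isAffineOpen_mem_and_subset (x := y) (U := U) hyU
    exact ⟨⟨V, hV⟩, hyV, res K hVU e, he.res hVU⟩
  choose U hxU e he using hgen
  let e' : ∀ y, Γ(K', g ⁻¹ᵁ (U y).1) := fun y => θ.app (U y).1 (e y)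
  let eh : ∀ y, Γ(Kh, h ⁻¹ᵁ (U y).1) := fun y => θh.app (U y).1 (e y)
  have he' : ∀ y, TMul.IsGen (X := X') (N := K') (U := g ⁻¹ᵁ (U y).1) (e' y) := fun y =>
    SymAlg.isGen_pullθ g (Iso.refl _) hK' (TMul.isQCoh_of_isInvertible hK) (e y) (he y)
  have heh : ∀ y, TMul.IsGen (X := Z) (N := Kh) (U := h ⁻¹ᵁ (U y).1) (eh y) := fun y =>
    SymAlg.isGen_pullθ h (Iso.refl _) hKh (TMul.isQCoh_of_isInvertible hK) (e y) (he y)
  choose a ha using fun y => ((he' y) (g ⁻¹ᵁ (U y).1) le_rfl).2 (TMul.val σ (g ⁻¹ᵁ (U y).1))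
  simp only [res_self] at ha
  let t : ∀ y, Γ(CohB1.tensorPow Kh D, h ⁻¹ᵁ (U y).1) := fun y => N.ν (U y) (a y) • TMul.pw (eh y) D
  have hpiece : ∀ (y w : X) (V : X.affineOpens) (hy : V.1 ≤ (U y).1) (hw : V.1 ≤ (U w).1),
      res (CohB1.tensorPow Kh D) (h.preimage_mono hy) (t y) =
        res (CohB1.tensorPow Kh D) (h.preimage_mono hw) (t w) := by
    intro y w V hy hw
    obtain ⟨c, hc⟩ := (he y V.1 hy).2 (res K hw (e w))
    have hθ : res K' (g.preimage_mono hw) (e' w) =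
        (g.app V.1).hom c • res K' (g.preimage_mono hy) (e' y) := by
      have h1 : θ.app V.1 (res K hw (e w)) = θ.app V.1 (c • res K hy (e y)) := congrArg _ hc.symm
      rw [Scheme.Modules.Hom.app_smul, ← app_res, ← app_res] at h1
      exact h1
    have hθh : res Kh (h.preimage_mono hw) (eh w) =
        (h.app V.1).hom c • res Kh (h.preimage_mono hy) (eh y) := by
      have h1 : θh.app V.1 (res K hw (e w)) = θh.app V.1 (c • res K hy (e y)) := congrArg _ hc.symm
      rw [Scheme.Modules.Hom.app_smul, ← app_res, ← app_res] at h1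
      exact h1
    have key : resO X' (g.preimage_mono hy) (a y) =
        resO X' (g.preimage_mono hw) (a w) * (g.app V.1).hom c := by
      refine ((he' y) (g ⁻¹ᵁ V.1) (g.preimage_mono hy)).1 ?_
      show resO X' (g.preimage_mono hy) (a y) • res K' (g.preimage_mono hy) (e' y) = _
      simp only [mul_smul, ← hθ]
      rw [← res_smul, ← res_smul, ha, ha, TMul.res_val, TMul.res_val]
    simp only [t, res_smul, TMul.res_pw]
    rw [← N.ν_res (W := V) hy, ← N.ν_res (W := V) hw, key, map_mul, N.ν_app, hθh, TMul.pw_smul, smul_smul]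
  have hcomp : ∀ y w, res (CohB1.tensorPow Kh D)
      (inf_le_left : h ⁻¹ᵁ (U y).1 ⊓ h ⁻¹ᵁ (U w).1 ≤ h ⁻¹ᵁ (U y).1) (t y) =
      res (CohB1.tensorPow Kh D) (inf_le_right : h ⁻¹ᵁ (U y).1 ⊓ h ⁻¹ᵁ (U w).1 ≤ h ⁻¹ᵁ (U w).1) (t w) := by
    intro y w
    choose V hV hxV hVle using fun x : ((U y).1 ⊓ (U w).1 : X.Opens) =>
      exists_isAffineOpen_mem_and_subset (x := x.1) (U := (U y).1 ⊓ (U w).1) x.2
    refine (QC.abSheaf (CohB1.tensorPow Kh D)).eq_of_locally_eq'
      (fun x => h ⁻¹ᵁ V x) (h ⁻¹ᵁ (U y).1 ⊓ h ⁻¹ᵁ (U w).1)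
      (fun x => homOfLE fun z hz => hVle x hz)
      (fun z hz => Opens.mem_iSup.mpr ⟨⟨h.base z, hz⟩, hxV ⟨h.base z, hz⟩⟩) _ _ fun x => ?_
    show res (CohB1.tensorPow Kh D) (fun z hz => hVle x hz) _ =
      res (CohB1.tensorPow Kh D) (fun z hz => hVle x hz) _
    rw [res_res, res_res]
    exact hpiece y w ⟨V x, hV x⟩ (fun z hz => (hVle x hz).1) (fun z hz => (hVle x hz).2)
  obtain ⟨T, hT, -⟩ := TopCat.Sheaf.existsUnique_gluing' (QC.abSheaf (CohB1.tensorPow Kh D))
    (fun y => h ⁻¹ᵁ (U y).1) ⊤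
    (fun y => homOfLE le_top) (fun z _ => Opens.mem_iSup.mpr ⟨h.base z, hxU (h.base z)⟩) t hcomp
  refine ⟨TMul.homOf T, fun z => ?_⟩
  let y := h.base z
  have hval : TMul.val (TMul.homOf T) (h ⁻¹ᵁ (U y).1) = N.ν (U y) (a y) • TMul.pw (eh y) D := by
    rw [TMul.val_homOf]
    exact hT y
  have h1 := TMul.genLocus_inf (TMul.homOf T) (TMul.isGen_pw (heh y) D) hval
  have h2 := TMul.genLocus_inf σ (he' y) (ha y).symm
  have hz : z ∈ h ⁻¹ᵁ (U y).1 := hxU y
  refine ⟨fun hfib => (h1.ge ?_).2, fun hg => ?_⟩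
  · refine N.mem_basicOpen _ _ z hz fun x' hx' => h2.le ⟨?_, hfib x' hx'⟩
    show g.base x' ∈ (U y).1
    rw [hx']; exact hxU y
  · obtain ⟨x', hx', hxa⟩ := N.exists_mem _ _ z (h1.le ⟨hz, hg⟩)
    exact ⟨x', hx', (h2.ge hxa).2⟩

/-- Ampleness of the inverse image on `X'` gives ampleness of the inverse image on the model. -/
theorem isAmple_of_normTo [CompactSpace Z] [IsFinite g] [IsAffineHom h] {D : ℕ} (hD : 0 < D)
    (N : NormTo g h D) {L : X.Modules} (hL : PicF.IsInvertible L)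
    (hA : CohB1.IsAmple ((Scheme.Modules.pullback g).obj L)) :
    CohB1.IsAmple ((Scheme.Modules.pullback h).obj L) := by
  classical
  haveI := hA.2.1
  refine ⟨PicLoc.isInvertible_pullback h hL, inferInstance, fun z => ?_⟩
  obtain ⟨W, hW, hxW, -⟩ := exists_isAffineOpen_mem_and_subset (x := h.base z) (U := ⊤) trivial
  obtain ⟨n, s, hZs, hsW, -⟩ := TMul.exists_finite_le hA (Z := g.base ⁻¹' {h.base z})
    (g.finite_preimage_singleton (h.base z)) (U := g ⁻¹ᵁ W) (fun x' hx' => by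
      show g.base x' ∈ W
      rw [Set.mem_preimage.mp hx' |> Set.mem_singleton_iff.mp]
      exact hxW)
  obtain ⟨i⟩ := TMul.nonempty_pullPowIso g L (n + 1)
  obtain ⟨T, hT⟩ := exists_norm_section N (TMul.isInvertible_tensorPow hL (n + 1)) (s ≫ i.hom)
  simp only [TMul.genLocus_comp] at hT
  obtain ⟨d, rfl⟩ : ∃ d, D = d + 1 := ⟨D - 1, by omega⟩
  obtain ⟨ih⟩ := TMul.nonempty_pullPowIso h L (n + 1)
  obtain ⟨ic⟩ := TMul.nonempty_powCongr ih (d + 1)
  obtain ⟨j⟩ := TMul.nonempty_powMulIso ((Scheme.Modules.pullback h).obj L) (n + 1) (d + 1)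
  obtain ⟨m, hm⟩ : ∃ m, (n + 1) * (d + 1) = m + 1 := ⟨n * d + n + d, by ring⟩
  let j' := ic.symm ≪≫ j ≪≫ eqToIso (congrArg (CohB1.tensorPow ((Scheme.Modules.pullback h).obj L)) hm)
  refine ⟨m, T ≫ j'.hom, ?_⟩
  rw [TMul.genLocus_comp]
  refine ⟨(hT z).1 fun x' hx' => hZs (by simpa using hx'), ?_⟩
  refine TMul.isAffineOpen_genLocus_of_le (TMul.isInvertible_tensorPow
    (PicLoc.isInvertible_pullback h (TMul.isInvertible_tensorPow hL _)) _) T (hW.preimage h) fun w hw => ?_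
  obtain ⟨x', hx', hxs⟩ := (hT w).2 hw
  have := hsW hxs
  show h.base w ∈ W
  rw [← hx']
  exact this

end Groth.Agent.FinBirat
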