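import Groth.Agent.FinBirat.Dense
import Groth.Agent.DCohLocus.FreeLocus
import Groth.Agent.Intersect.Push
import Groth.Agent.RefStalk.Refl
import Groth.Agent.QC.FiniteType
import Groth.Agent.EtPBC.UnibrConst
import Mathlib.AlgebraicGeometry.Morphisms.Flat

/-!
Normal-or-free points of a finite morphism: free stalks, restriction to opens, nil immersions.
-/

set_option autoImplicit false
set_option backward.isDefEq.respectTransparency false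
set_option linter.style.haveILetI false
set_option linter.unusedSectionVars false

universe u

open CategoryTheory CategoryTheory.Limits AlgebraicGeometry TopologicalSpace Opposite Module
open Groth.Agent.NormAmple

noncomputable section

namespace Groth.Agent.FinBirat

open Groth.Agent

variable {X' X : Scheme.{u}} {g : X' ⟶ X}

/-- A point with free direct image stalk has a free neighbourhood. -/
theorem normalOrFreeAt_of_freeStalk [IsLocallyNoetherian X] [IsFinite g] [Surjective g] {x : X}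
    (h : Module.Free (X.presheaf.stalk x) (((Coh.push g).obj (Coh.structureModule X')).presheaf.stalk x)) :
    NormalOrFreeAt g x := by
  let M := (Coh.push g).obj (Coh.structureModule X')
  haveI : IsLocallyNoetherian X' := LocallyOfFiniteType.isLocallyNoetherian g
  have hM : Coh.IsCoh M := Intersect.isCoh_push' g RefStalk.isCoh_structureModule
  haveI := hM.1
  have hfp : CohB1.IsFP M := QC.isFP_of_isQCoh_of_isFT hM.2
  obtain ⟨D, hD, hxD, -⟩ := exists_isAffineOpen_mem_and_subset (x := x) (U := ⊤) trivial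
  haveI := LocFree.finitePresentation_sections_of_isFP hM.1 hfp hD
  obtain ⟨U, hxU, hU⟩ := DCohLocus.exists_free_near M hM.1 hfp ⟨h, LocFree.finite_stalk hD hM.1 hxD⟩
  exact normalOrFreeAt_of_locallyFree hxU hU

/-- The condition is local. -/
theorem normalOrFreeAt_restrict [IsAffineHom g] (U : X.Opens) (x : U.toScheme)
    (h : NormalOrFreeAt g (U.ι x)) : NormalOrFreeAt (g ∣_ U) x := by
  rcases h with ⟨h1, h2⟩ | ⟨W₀, n, hxW, hn, hW, hb⟩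
  · refine Or.inl ?_
    let e := (U.stalkIso x).commRingCatIsoToRingEquiv
    haveI := h1
    haveI := h2
    exact ⟨e.toMulEquiv.isDomain_iff.mpr h1, @IsIntegrallyClosed.of_equiv _ _ _ _ e.symm h2⟩
  · refine Or.inr ?_
    obtain ⟨r, hrU, hxr⟩ := hW.exists_basicOpen_le ⟨U.ι x, x.2⟩ hxW
    obtain ⟨⟨hWa, n', hn', -, hb'⟩, -⟩ := good_basicOpen g n (W := W₀) ⟨hW, n, hn, dvd_rfl, hb⟩ r
    have e : U.ι ''ᵁ (U.ι ⁻¹ᵁ X.basicOpen r) = X.basicOpen r := by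
      rw [Scheme.Hom.image_preimage_eq_opensRange_inf, Scheme.Opens.opensRange_ι, inf_eq_right.mpr hrU]
    refine ⟨U.ι ⁻¹ᵁ X.basicOpen r, n', hxr, hn',
      (U.ι.isAffineOpen_iff_of_isOpenImmersion).mp (by rw [e]; exact hWa), ?_⟩
    have key := basis_appLE e (image_morphismRestrict_preimage g U (U.ι ⁻¹ᵁ X.basicOpen r)) hb'
    rw [← morphismRestrict_app'] at key
    exact key

/-- Free opens pull back along affine morphisms. -/
theorem isFreeOpen_baseChange {X₀ P : Scheme.{u}} {r : X₀ ⟶ X} [IsAffineHom g] [IsAffineHom r] {r' : P ⟶ X'}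
    {g₀ : P ⟶ X₀} (H : IsPullback r' g₀ g r) {W : X.Opens} {n : ℕ} (h : IsFreeOpen g W n) :
    IsFreeOpen g₀ (r ⁻¹ᵁ W) n := by
  obtain ⟨hn, hW, hb⟩ := h
  refine ⟨hn, hW.preimage r, ?_⟩
  letI algA : Algebra Γ(X, W) Γ(X', g ⁻¹ᵁ W) := (g.app W).hom.toAlgebra
  obtain ⟨b⟩ := hb
  have hUY : g₀ ⁻¹ᵁ (r ⁻¹ᵁ W) = r' ⁻¹ᵁ (g ⁻¹ᵁ W) ⊓ g₀ ⁻¹ᵁ (r ⁻¹ᵁ W) := by
    refine (inf_eq_right.mpr ?_).symm
    rw [← Scheme.Hom.comp_preimage, ← Scheme.Hom.comp_preimage, H.w]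
  have sq := (isIso_pushoutSection_iff H (le_refl (r ⁻¹ᵁ W)) (le_refl (g ⁻¹ᵁ W)) hUY).1
    (isIso_pushoutSection_of_isAffineOpen H (le_refl _) (le_refl _) hUY hW (hW.preimage r) (hW.preimage g))
  simp only [Scheme.Hom.appLE_eq_app] at sq
  letI algS : Algebra Γ(X, W) Γ(X₀, r ⁻¹ᵁ W) := (r.app W).hom.toAlgebra
  letI algT : Algebra Γ(X₀, r ⁻¹ᵁ W) Γ(P, g₀ ⁻¹ᵁ (r ⁻¹ᵁ W)) := (g₀.app (r ⁻¹ᵁ W)).hom.toAlgebra
  letI algU : Algebra Γ(X', g ⁻¹ᵁ W) Γ(P, g₀ ⁻¹ᵁ (r ⁻¹ᵁ W)) :=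
    (r'.appLE (g ⁻¹ᵁ W) (g₀ ⁻¹ᵁ (r ⁻¹ᵁ W)) (hUY.le.trans inf_le_left)).hom.toAlgebra
  letI algR : Algebra Γ(X, W) Γ(P, g₀ ⁻¹ᵁ (r ⁻¹ᵁ W)) :=
    ((g₀.app (r ⁻¹ᵁ W)).hom.comp (r.app W).hom).toAlgebra
  haveI : IsScalarTower Γ(X, W) Γ(X₀, r ⁻¹ᵁ W) Γ(P, g₀ ⁻¹ᵁ (r ⁻¹ᵁ W)) :=
    IsScalarTower.of_algebraMap_eq fun _ => rfl
  haveI : IsScalarTower Γ(X, W) Γ(X', g ⁻¹ᵁ W) Γ(P, g₀ ⁻¹ᵁ (r ⁻¹ᵁ W)) :=
    IsScalarTower.of_algebraMap_eq fun c => congr(($(sq.w)).hom c).symm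
  haveI : Algebra.IsPushout Γ(X, W) Γ(X', g ⁻¹ᵁ W) Γ(X₀, r ⁻¹ᵁ W) Γ(P, g₀ ⁻¹ᵁ (r ⁻¹ᵁ W)) :=
    CommRingCat.isPushout_iff_isPushout.mp sq
  haveI : Algebra.IsPushout Γ(X, W) Γ(X₀, r ⁻¹ᵁ W) Γ(X', g ⁻¹ᵁ W) Γ(P, g₀ ⁻¹ᵁ (r ⁻¹ᵁ W)) :=
    Algebra.IsPushout.symm inferInstance
  exact ⟨(Algebra.TensorProduct.basis Γ(X₀, r ⁻¹ᵁ W) b).map
    (Algebra.IsPushout.equiv Γ(X, W) Γ(X₀, r ⁻¹ᵁ W) Γ(X', g ⁻¹ᵁ W) Γ(P, g₀ ⁻¹ᵁ (r ⁻¹ᵁ W))).toLinearEquiv⟩

/-- The condition passes to surjective closed subschemes. -/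
theorem normalOrFreeAt_baseChange {X₀ P : Scheme.{u}} (r : X₀ ⟶ X) [IsAffineHom g] [IsClosedImmersion r]
    [Surjective r] {r' : P ⟶ X'} {g₀ : P ⟶ X₀} (H : IsPullback r' g₀ g r) (x : X₀)
    (h : NormalOrFreeAt g (r x)) : NormalOrFreeAt g₀ x := by
  rcases h with ⟨h1, h2⟩ | ⟨W, n, hxW, hW⟩
  · haveI := h1
    haveI := h2
    have hinj : Function.Injective (r.stalkMap x).hom := by
      rw [injective_iff_map_eq_zero]
      intro a ha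
      have := EtPBC.UnibrConst.ker_stalkMap_le_nilradical r x (RingHom.mem_ker.mpr ha)
      rw [nilradical_eq_zero] at this
      exact Ideal.mem_bot.mp this
    let e := RingEquiv.ofBijective (r.stalkMap x).hom ⟨hinj, r.stalkMap_surjective x⟩
    exact Or.inl ⟨e.toMulEquiv.isDomain_iff.mp h1, IsIntegrallyClosed.of_equiv e⟩
  · exact Or.inr ⟨r ⁻¹ᵁ W, n, hxW, isFreeOpen_baseChange H hW⟩

end Groth.Agent.FinBirat
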