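import Groth.Agent.FinBirat.Core
import Groth.Agent.FinBirat.Reduce
import Groth.Agent.FinBirat.Model
import Groth.Agent.FinBirat.NormDesc
import Groth.Agent.W7Hull.AmpleSurj
import Groth.Agent.ClSubLib.Basic
import Groth.Agent.RedSepLib.Basic

/-!
Ampleness descends along a finite surjective morphism which is normal or free off a proper subset.
-/

set_option autoImplicit false
set_option backward.isDefEq.respectTransparency false
set_option linter.style.haveILetI false
set_option linter.unusedSectionVars false

universe u

open CategoryTheory CategoryTheory.Limits AlgebraicGeometry TopologicalSpace Opposite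

noncomputable section

namespace Groth.Agent.FinBirat

open Groth.Agent

variable {R : Type u} [CommRing R] [IsNoetherianRing R] {X' X : Scheme.{u}}

theorem isIso_restrict_of_le {Z : Scheme.{u}} (h : Z ⟶ X) {W O : X.Opens} (hWO : W ≤ O) [IsIso (h ∣_ O)] :
    IsIso (h ∣_ W) :=
  (MorphismProperty.isomorphisms.iff _).mp
    (((MorphismProperty.isomorphisms Scheme.{u}).arrow_mk_iso_iff
      (morphismRestrictRestrict h O (O.ι ⁻¹ᵁ W) ≪≫ morphismRestrictEq h (by
        rw [Scheme.Hom.image_preimage_eq_opensRange_inf, Scheme.Opens.opensRange_ι, inf_eq_right.mpr hWO]))).mp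
      (IsZariskiLocalAtTarget.restrict ((MorphismProperty.isomorphisms.iff _).mpr ‹IsIso (h ∣_ O)›) _))

theorem surjective_of_dense {Z : Scheme.{u}} (h : Z ⟶ X) [UniversallyClosed h] {O : X.Opens}
    [IsIso (h ∣_ O)] (hO : Dense (O : Set X)) : Surjective h := by
  refine ⟨fun x => ?_⟩
  have hsub : (O : Set X) ⊆ Set.range h.base := fun y hy => by
    obtain ⟨w, hw⟩ := (h ∣_ O).surjective ⟨y, hy⟩
    refine ⟨(h ⁻¹ᵁ O).ι w, ?_⟩
    rw [← Scheme.Hom.comp_apply, ← morphismRestrict_ι, Scheme.Hom.comp_apply, hw]
    rfl
  exact h.isClosedMap.isClosed_range.closure_subset_iff.mpr hsub (hO x)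

/-- The reduced case. -/
theorem isAmple_of_pullback_of_isReduced (q : X ⟶ Spec (CommRingCat.of R)) [LocallyOfFiniteType q]
    [QuasiCompact q] [IsReduced X] (g : X' ⟶ X) [IsFinite g] [Surjective g] {L : X.Modules}
    (hL : PicF.IsInvertible L) (Z : Set X) (hZ : ClSub.IsProperOver q Z)
    (hreg : ∀ x : X, x ∉ Z → NormalOrFreeAt g x)
    (hA : CohB1.IsAmple ((Scheme.Modules.pullback g).obj L)) : CohB1.IsAmple L := by
  haveI : IsLocallyNoetherian X := LocallyOfFiniteType.isLocallyNoetherian q
  haveI : CompactSpace X := QuasiCompact.compactSpace_of_compactSpace q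
  haveI : IsNoetherian X := ⟨⟩
  let W : X.Opens := ⟨Zᶜ, hZ.1.isOpen_compl⟩
  obtain ⟨O, Z₁, h, hfin, hred, hWO, hO, -, hiso, D, hD, ⟨N⟩⟩ := exists_model (g := g) W fun x hx => hreg x hx
  haveI := hiso
  haveI : Surjective h := surjective_of_dense h hO
  haveI : IsIso (h ∣_ W) := isIso_restrict_of_le h hWO
  haveI : CompactSpace Z₁ := QuasiCompact.compactSpace_of_compactSpace h
  have hrange : Set.range (Jc W).subschemeι.base ⊆ Z := by
    rw [Scheme.IdealSheafData.range_subschemeι, support_Jc]
    exact (compl_compl Z).le
  have hprop : IsProper ((Jc W).subschemeι ≫ q) := ClSubLib.isProper_comp q _ hZ hrange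
  refine isAmple_of_birational q h W hprop hL (isAmple_of_normTo hD N hL hA) ?_
  -- the proper part
  let ι := (Jc W).subschemeι
  haveI : IsProper (ι ≫ q) := hprop
  haveI : IsFinite (pullback.snd g ι) := MorphismProperty.pullback_snd _ _ inferInstance
  haveI : Surjective (pullback.snd g ι) := MorphismProperty.pullback_snd _ _ inferInstance
  haveI : IsClosedImmersion (pullback.fst g ι) := MorphismProperty.pullback_fst _ _ inferInstance
  haveI : IsNoetherian (Jc W).subscheme := by
    haveI : IsLocallyNoetherian (Jc W).subscheme := LocallyOfFiniteType.isLocallyNoetherian ι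
    haveI : CompactSpace (Jc W).subscheme := QuasiCompact.compactSpace_of_compactSpace ι
    exact ⟨⟩
  haveI : CompactSpace (pullback g ι : Scheme.{u}) :=
    QuasiCompact.compactSpace_of_compactSpace (pullback.snd g ι)
  refine W7Hull.isAmple_of_pullback (pullback.snd g ι ≫ ι ≫ q) (pullback.snd g ι) _
    (PicLoc.isInvertible_pullback ι hL) ?_
  haveI := hA.2.1
  exact TMul.isAmple_congr ((Scheme.Modules.pullbackComp (pullback.fst g ι) g).app L ≪≫
    (Scheme.Modules.pullbackCongr pullback.condition).app L ≪≫
    ((Scheme.Modules.pullbackComp (pullback.snd g ι) ι).app L).symm)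
    (TMul.isAmple_pullback _ (pullback.fst g ι).isClosedEmbedding.isInducing hA)

/-- Ampleness descends along a finite surjective morphism which is normal or free off a proper subset. -/
theorem isAmple_of_pullback_of_normalOrFree (q : X ⟶ Spec (CommRingCat.of R)) [LocallyOfFiniteType q]
    [QuasiCompact q] (g : X' ⟶ X) [IsFinite g] [Surjective g] {L : X.Modules}
    (hL : PicF.IsInvertible L) (Z : Set X) (hZ : ClSub.IsProperOver q Z)
    (hreg : ∀ x : X, x ∉ Z → NormalOrFreeAt g x)
    (hA : CohB1.IsAmple ((Scheme.Modules.pullback g).obj L)) : CohB1.IsAmple L := by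
  let r := X.nilradical.subschemeι
  haveI : IsReduced X.nilradical.subscheme := RedSepLib.isReduced_subscheme_nilradical X
  haveI : Surjective r := ⟨fun x => by
    have : x ∈ Set.range r.base := by
      rw [Scheme.IdealSheafData.range_subschemeι, Scheme.support_nilradical]
      trivial
    exact this⟩
  have hhomeo : IsHomeomorph r.base :=
    (isHomeomorph_iff_isEmbedding_surjective).mpr ⟨r.isClosedEmbedding.isEmbedding, r.surjective⟩
  refine (Groth.Agent.S2153.result r hhomeo L hL).mp ?_
  haveI : IsFinite (pullback.snd g r) := MorphismProperty.pullback_snd _ _ inferInstance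
  haveI : Surjective (pullback.snd g r) := MorphismProperty.pullback_snd _ _ inferInstance
  haveI : IsClosedImmersion (pullback.fst g r) := MorphismProperty.pullback_fst _ _ inferInstance
  haveI : CompactSpace X := QuasiCompact.compactSpace_of_compactSpace q
  haveI : CompactSpace X' := QuasiCompact.compactSpace_of_compactSpace g
  haveI : CompactSpace (pullback g r : Scheme.{u}) :=
    (pullback.fst g r).isClosedEmbedding.compactSpace
  refine isAmple_of_pullback_of_isReduced (r ≫ q) (pullback.snd g r) (PicLoc.isInvertible_pullback r hL)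
    (r.base ⁻¹' Z) (ClSubLib.isProperOver_preimage r rfl hZ)
    (fun x hx => normalOrFreeAt_baseChange r (IsPullback.of_hasPullback g r) x (hreg _ hx)) ?_
  exact TMul.isAmple_congr ((Scheme.Modules.pullbackComp (pullback.fst g r) g).app L ≪≫
    (Scheme.Modules.pullbackCongr pullback.condition).app L ≪≫
    ((Scheme.Modules.pullbackComp (pullback.snd g r) r).app L).symm)
    (TMul.isAmple_pullback _ (pullback.fst g r).isClosedEmbedding.isInducing hA)

end Groth.Agent.FinBirat
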