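import Groth.Agent.FinBirat.Tau
import Groth.Agent.LeffAmple.Sections
import Groth.Agent.CurveRR.Curve

/-!
Sections congruent to prescribed local sections, for high powers of an ample module.
-/

set_option autoImplicit false
set_option backward.isDefEq.respectTransparency false
set_option linter.style.haveILetI false

universe u

open CategoryTheory CategoryTheory.Limits AlgebraicGeometry TopologicalSpace Opposite
open Groth.Agent.QC (res resO res_res res_self res_smul resO_resO app_res)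

noncomputable section

namespace Groth.Agent.FinBirat

open Groth.Agent

variable {P : Scheme.{u}}

/-- Multiplication of functions with sections. -/
def mulB (M : P.Modules) (U : P.Opens) :
    Γ(Coh.structureModule P, U) →ₗ[Γ(P, U)] Γ(M, U) →ₗ[Γ(P, U)] Γ(M, U) :=
  LinearMap.mk₂ _ (fun c m => (show Γ(P, U) from c) • m) (fun _ _ _ => add_smul _ _ _)
    (fun _ _ _ => mul_smul _ _ _) (fun _ _ _ => smul_add _ _ _) (fun _ _ _ => smul_comm _ _ _)

theorem exists_eq_tm_one {M : P.Modules} (hM : PicF.IsInvertible M) {U : P.Opens}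
    (w : Γ(CohB1.tensorMod (Coh.structureModule P) M, U)) :
    ∃ s : Γ(M, U), TMul.tm (str (1 : Γ(P, U))) s = w := by
  let μ := TMul.lift (mulB M) (fun {V U} h m n => res_smul M h _ _)
  refine ⟨μ.app U w, QC.section_eq_of_locally fun x hx => ?_⟩
  obtain ⟨V₀, e₀, hxV₀, he₀⟩ := TMul.exists_isGen hM x
  have he := he₀.res (inf_le_left : V₀ ⊓ U ≤ V₀)
  refine ⟨V₀ ⊓ U, inf_le_right, ⟨hxV₀, hx⟩, ?_⟩
  obtain ⟨c, hc⟩ := (TMul.tm_bijective (M := Coh.structureModule P) he (V₀ ⊓ U) le_rfl).2
    (res (CohB1.tensorMod (Coh.structureModule P) M) inf_le_right w)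
  simp only [res_self] at hc
  rw [TMul.res_tm, app_res, ← hc]
  have h1 : μ.app (V₀ ⊓ U) (TMul.tm c (res M inf_le_left e₀)) =
      (show Γ(P, V₀ ⊓ U) from c) • res M inf_le_left e₀ := TMul.lift_tm _ _ _ _
  erw [h1]
  have h2 : res (Coh.structureModule P) (inf_le_right : V₀ ⊓ U ≤ U) (str (1 : Γ(P, U))) = str 1 :=
    map_one (resO P inf_le_right)
  rw [h2, TMul.tm_smul, ← TMul.smul_tm]
  exact congrArg (fun o => TMul.tm (str o) (res M inf_le_left e₀)) (mul_one (show Γ(P, V₀ ⊓ U) from c))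

/-- Congruence classes lift to global sections of high powers. -/
theorem exists_lift {R : Type u} [CommRing R] [IsNoetherianRing R]
    (q : P ⟶ Spec (CommRingCat.of R)) [IsProper q] {L : P.Modules} (hL : CohB1.IsAmple L)
    (I : P.IdealSheafData) :
    ∃ k₀ : ℕ, ∀ k, k₀ ≤ k → ∀ (J : Type u) (D : J → P.Opens), (∀ p : P, ∃ j, p ∈ D j) →
      ∀ σ : ∀ j, Γ(CohB1.tensorPow L k, D j),
      (∀ j l, tau I (CohB1.tensorPow L k) (res (CohB1.tensorPow L k) (inf_le_left : D j ⊓ D l ≤ D j) (σ j)) =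
        tau I (CohB1.tensorPow L k) (res (CohB1.tensorPow L k) (inf_le_right : D j ⊓ D l ≤ D l) (σ l))) →
      ∃ s : Γ(CohB1.tensorPow L k, ⊤),
        ∀ j, tau I (CohB1.tensorPow L k) (res (CohB1.tensorPow L k) le_top s - σ j) = 0 := by
  haveI : IsLocallyNoetherian P := LocallyOfFiniteType.isLocallyNoetherian q
  obtain ⟨k₀, hk₀⟩ := CohFinite.vanish_ample q hL (CurveRR.isCoh_idealMod I).1
  refine ⟨k₀, fun k hk J D hD σ hσ => ?_⟩
  let M := CohB1.tensorPow L k
  have hM : PicF.IsInvertible M := TMul.isInvertible_tensorPow hL.1 k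
  have hT := CohFinite.shortExact_tmap hM (CurveRR.ideal_shortExact I)
  haveI : Subsingleton (Coh.HH P (CohB1.tensorMod (ClSub.idealMod I) M) 1) := hk₀ k hk 0
  have hsurj : Function.Surjective ((CohFinite.tmap (ClSub.toSubscheme I) M).app ⊤) :=
    LeffAmple.surjective_sections hT fun a b _ => Subsingleton.elim
      (α := Coh.HH P (CohB1.tensorMod (ClSub.idealMod I) M) 1) a b
  obtain ⟨T, hT', -⟩ := TopCat.Sheaf.existsUnique_gluing'
    (QC.abSheaf (CohB1.tensorMod (ClSub.quotMod I) M)) D ⊤ (fun j => homOfLE le_top)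
    (fun p _ => Opens.mem_iSup.mpr (hD p)) (fun j => tau I M (σ j)) (fun j l => by
      show res _ inf_le_left (tau I M (σ j)) = res _ inf_le_right (tau I M (σ l))
      rw [← tau_res, ← tau_res]
      exact hσ j l)
  obtain ⟨w, hw⟩ := hsurj T
  obtain ⟨s, hs⟩ := exists_eq_tm_one hM w
  refine ⟨s, fun j => ?_⟩
  rw [tau_sub, tau_res, sub_eq_zero, show tau I M s = T from (congrArg _ hs).trans hw]
  exact hT' j

end Groth.Agent.FinBirat
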