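import Groth.Agent.Unibranch.FiniteExtension
import Mathlib

/-!
Finite birational modifications of a Noetherian reduced scheme with prescribed denominators.
-/

set_option autoImplicit false
set_option backward.isDefEq.respectTransparency false
set_option backward.isDefEq.respectTransparency.types false
set_option linter.style.haveILetI false

universe u

open CategoryTheory CategoryTheory.Limits AlgebraicGeometry TopologicalSpace Opposite
open Groth.Agent.Unibranch (denomSet denomAlg denomMap denomData app_mem_denomAlg mem_denomAlg_of_mem)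

noncomputable section

namespace Groth.Agent.FinBirat

variable {X : Scheme.{u}}

/-- Restriction along an open immersion with dense image is injective on a reduced scheme. -/
theorem appLE_injective_of_denseRange {Y Z : Scheme.{u}} [IsReduced Z] (k : Y ⟶ Z) [IsOpenImmersion k]
    (hk : DenseRange k.base) (V : Z.Opens) (W : Y.Opens) (e : W = k ⁻¹ᵁ V) :
    Function.Injective (k.appLE V W e.le) := by
  subst e
  rw [← Scheme.Hom.app_eq_appLE]
  rw [injective_iff_map_eq_zero]
  intro s hs
  rw [← AlgebraicGeometry.basicOpen_eq_bot_iff]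
  by_contra hne
  obtain ⟨z, hz⟩ : ((Z.basicOpen s : Z.Opens) : Set Z).Nonempty := by
    rwa [Set.nonempty_iff_ne_empty, ← Opens.coe_bot, Ne, SetLike.coe_set_eq]
  obtain ⟨y, hy⟩ := hk.exists_mem_open (Z.basicOpen s).2 ⟨z, hz⟩
  have : y ∈ k ⁻¹ᵁ Z.basicOpen s := hy
  rw [Scheme.preimage_basicOpen, hs, Scheme.basicOpen_zero] at this
  exact this

theorem isReduced_of_subring {R : Type u} [CommRing R] [_root_.IsReduced R] (S : Subring R) :
    _root_.IsReduced S :=
  isReduced_of_injective S.subtype Subtype.val_injective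

/-- The charts of the modification: preimages of affine opens are spectra of `denomAlg`. -/
theorem exists_chart_equiv [IsLocallyNoetherian X] {O : X.Opens} [QuasiCompact O.ι] (I : X.IdealSheafData)
    (U : X.AffineZariskiSite) :
    ∃ ψ : Γ((denomData O.ι I).glued, (denomData O.ι I).toBase ⁻¹ᵁ U.toOpens) →+* denomAlg O.ι I U,
      Function.Bijective ψ ∧ ∀ c : Γ(X, U.toOpens),
        (ψ (((denomData O.ι I).toBase.app U.toOpens).hom c)).1 = O.ι.app U.toOpens c := by
  let d := denomData O.ι I
  let j := colimit.ι d.functor U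
  haveI : IsOpenImmersion j := d.cover.map_prop U
  have hj : j ≫ d.toBase = Spec.map ((denomMap O.ι I).app (.op U)) ≫ U.2.fromSpec := by
    refine (Scheme.Cover.RelativeGluingData.ι_toBase d U).trans ?_
    show (Spec.map _ ≫ U.2.isoSpec.inv) ≫ U.toOpens.ι = _
    rw [Category.assoc, IsAffineOpen.isoSpec_inv_ι]
    rfl
  have hpre : d.toBase ⁻¹ᵁ U.toOpens = j.opensRange := by
    simpa using! d.toBase_preimage_eq_opensRange_ι U
  have h2 : j ⁻¹ᵁ (d.toBase ⁻¹ᵁ U.toOpens) = ⊤ := by rw [hpre, Scheme.Hom.preimage_opensRange]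
  let ψ₀ := j.appLE (d.toBase ⁻¹ᵁ U.toOpens) ⊤ h2.ge ≫
    (Scheme.ΓSpecIso ((Unibranch.denomDiagram O.ι I).obj (.op U))).hom
  haveI : IsIso ψ₀ := by
    haveI : IsIso (j.app (d.toBase ⁻¹ᵁ U.toOpens)) := j.isIso_app _ hpre.le
    haveI : IsIso (homOfLE h2.ge).op :=
      ⟨(homOfLE h2.le).op, Subsingleton.elim _ _, Subsingleton.elim _ _⟩
    haveI : IsIso (j.appLE (d.toBase ⁻¹ᵁ U.toOpens) ⊤ h2.ge) := by
      rw [Scheme.Hom.appLE]
      haveI := Functor.map_isIso (d.functor.obj U).presheaf (homOfLE h2.ge).op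
      exact IsIso.comp_isIso
    exact IsIso.comp_isIso
  refine ⟨ψ₀.hom, ConcreteCategory.bijective_of_isIso ψ₀, fun c => ?_⟩
  have key : d.toBase.app U.toOpens ≫ ψ₀ = (denomMap O.ι I).app (.op U) := by
    simp only [ψ₀, Scheme.Hom.app_eq_appLE, Scheme.Hom.appLE_comp_appLE_assoc, hj]
    rw [← Scheme.Hom.appLE_comp_appLE _ _ U.toOpens ⊤ ⊤ U.2.fromSpec_preimage_self.ge le_rfl,
      Scheme.Hom.appLE, IsAffineOpen.fromSpec_app_self]
    simp only [Category.assoc, ← Functor.map_comp_assoc]
    rw [Scheme.Hom.appLE]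
    simp [Scheme.ΓSpecIso_naturality]
    erw [Iso.inv_hom_id_assoc]
  exact congr(($(key).hom c).1)

variable [IsNoetherian X] [IsReduced X]

theorem isReduced_glued {O : X.Opens} (I : X.IdealSheafData) [QuasiCompact O.ι] :
    IsReduced (denomData O.ι I).glued := by
  haveI : ∀ U, IsReduced ((denomData O.ι I).functor.obj U) := fun U => by
    haveI : _root_.IsReduced (denomAlg O.ι I U) := isReduced_of_subring _
    show IsReduced (Spec (CommRingCat.of (denomAlg O.ι I U)))
    infer_instance
  haveI : ∀ x : (denomData O.ι I).glued, _root_.IsReduced ((denomData O.ι I).glued.presheaf.stalk x) :=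
    fun x => by
      obtain ⟨U, y, rfl⟩ := (denomData O.ι I).cover.exists_eq x
      haveI : IsOpenImmersion ((denomData O.ι I).cover.f U) := (denomData O.ι I).cover.map_prop U
      haveI : IsReduced ((denomData O.ι I).cover.X U) :=
        inferInstanceAs (IsReduced ((denomData O.ι I).functor.obj U))
      exact _root_.isReduced_of_injective (((denomData O.ι I).cover.f U).stalkMap y).hom
        (ConcreteCategory.bijective_of_isIso (((denomData O.ι I).cover.f U).stalkMap y)).1
  exact isReduced_of_isReduced_stalk _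

/-- A finite birational modification containing all sections with denominators in `I`. -/
theorem exists_modif (O : X.Opens) (I : X.IdealSheafData) (hsupp : (I.support : Set X) = (O : Set X)ᶜ)
    (hI : ∀ U : X.affineOpens, ∃ c ∈ I.ideal U,
      ∀ x : Γ(O.toScheme, O.ι ⁻¹ᵁ U.1), O.ι.app U.1 c * x = 0 → x = 0) :
    ∃ (Z : Scheme.{u}) (h : Z ⟶ X) (_ : IsFinite h) (_ : IsReduced Z) (k : O.toScheme ⟶ Z)
      (_ : IsOpenImmersion k), k ≫ h = O.ι ∧ DenseRange k.base ∧ k.opensRange = h ⁻¹ᵁ O ∧
      IsIso (h ∣_ O) ∧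
      ∀ (U : X.affineOpens) (x : Γ(O.toScheme, O.ι ⁻¹ᵁ U.1)), (O.ι.app U.1).hom.IsIntegralElem x →
        (∀ c ∈ I.ideal U, ∃ e, O.ι.app U.1 c * x = O.ι.app U.1 e) →
        ∀ hle : O.ι ⁻¹ᵁ U.1 ≤ k ⁻¹ᵁ (h ⁻¹ᵁ U.1),
          ∃ t : Γ(Z, h ⁻¹ᵁ U.1), k.appLE (h ⁻¹ᵁ U.1) (O.ι ⁻¹ᵁ U.1) hle t = x := by
  classical
  haveI : QuasiCompact O.ι := inferInstance
  let d := denomData O.ι I
  let Z := d.glued
  let h : Z ⟶ X := d.toBase
  haveI : IsReduced Z := isReduced_glued I
  choose c hcI hcreg using hI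
  -- finiteness
  haveI hfin : IsFinite h := by
    refine (IsZariskiLocalAtTarget.iff_of_openCover (P := @IsFinite)
      (Scheme.AffineZariskiSite.directedCover X)).mpr fun (U : X.AffineZariskiSite) => ?_
    have hpb := (Scheme.Cover.RelativeGluingData.isPullback_natTrans_ι_toBase d U).flip
    show IsFinite (pullback.snd d.toBase _)
    have hf : ((denomMap O.ι I).app (.op U)).hom.Finite := by
      let V : X.affineOpens := ⟨U.1, U.2⟩
      let := (O.ι.app U.toOpens).hom.toAlgebra
      haveI : IsNoetherianRing Γ(X, U.toOpens) := IsLocallyNoetherian.component_noetherian V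
      let A := Γ(X, U.toOpens)
      let T := Algebra.adjoin A (denomSet O.ι I U)
      let M := Submodule.span A (denomSet O.ι I U)
      have hM : M.FG := by
        have h1 : M.map (LinearMap.mulLeft A (O.ι.app U.toOpens (c V))) ≤
            LinearMap.range (Algebra.linearMap A Γ(O.toScheme, O.ι ⁻¹ᵁ U.toOpens)) := by
          rw [Submodule.map_span, Submodule.span_le]
          rintro _ ⟨a, ha, rfl⟩
          obtain ⟨e, he⟩ := ha.2 (c V) (hcI V)
          exact ⟨e, he.symm⟩
        have h2 : (M.map (LinearMap.mulLeft A (O.ι.app U.toOpens (c V)))).FG :=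
          Submodule.FG.of_le (hST := h1) (by
            rw [LinearMap.range_eq_map]
            exact Submodule.FG.map _ Module.Finite.fg_top)
        exact Submodule.fg_of_fg_map_injective _ (fun a b hab =>
          sub_eq_zero.mp (hcreg V _ (by rw [mul_sub]; exact sub_eq_zero.mpr hab))) h2
      obtain ⟨G, hGsub, hG⟩ := (Submodule.fg_span_iff_fg_span_finset_subset (denomSet O.ι I U)).mp hM
      have hT : T = Algebra.adjoin A (G : Set Γ(O.toScheme, O.ι ⁻¹ᵁ U.toOpens)) := by
        refine le_antisymm (Algebra.adjoin_le fun a ha ↦ ?_) (Algebra.adjoin_mono hGsub)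
        exact Algebra.span_le_adjoin _ _ (hG ▸ Submodule.subset_span ha)
      have : Module.Finite A T := by
        rw [hT]
        exact Module.Finite.iff_fg.mpr (fg_adjoin_of_finite G.finite_toSet fun a ha ↦ (hGsub ha).1)
      exact RingHom.finite_algebraMap.mpr this
    have h1 : IsFinite (d.natTrans.app U) := by
      show IsFinite (Spec.map _ ≫ U.2.isoSpec.inv)
      rw [MorphismProperty.cancel_right_of_respectsIso (P := @IsFinite)]
      exact (IsFinite.SpecMap_iff _).mpr hf
    exact (MorphismProperty.cancel_left_of_respectsIso @IsFinite hpb.isoPullback.hom _).mp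
      (hpb.isoPullback_hom_snd.symm ▸ h1)
  have hψ := fun U : X.affineOpens => exists_chart_equiv (O := O) I (U := ⟨U.1, U.2⟩)
  choose ψ hψbij hψapp using hψ
  -- isomorphism over `O`
  haveI hiso : IsIso (h ∣_ O) := by
    refine (MorphismProperty.isomorphisms.iff _).mp ?_
    refine IsZariskiLocalAtTarget.of_iSup_eq_top (P := MorphismProperty.isomorphisms Scheme.{u})
      (fun W : {W : O.toScheme.Opens // IsAffineOpen W} => W.1) (iSup_affineOpens_eq_top _) fun W => ?_
    obtain ⟨W, hW⟩ := W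
    let U : X.affineOpens := ⟨O.ι ''ᵁ W, hW.image_of_isOpenImmersion O.ι⟩
    refine ((MorphismProperty.isomorphisms Scheme.{u}).arrow_mk_iso_iff
      (morphismRestrictRestrict h O W)).mpr ?_
    show IsIso (h ∣_ U.1)
    have hUO : U.1 ≤ O := O.ι_image_le W
    haveI : IsAffine ((h ⁻¹ᵁ U.1).toScheme) := U.2.preimage h
    haveI : IsAffine U.1.toScheme := U.2
    have hbij : Function.Bijective (O.ι.app U.1) := by
      haveI : IsIso (O.ι.app U.1) := O.ι.isIso_app U.1 (by rw [Scheme.Opens.opensRange_ι]; exact hUO)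
      exact ConcreteCategory.bijective_of_isIso _
    have hb : Function.Bijective (h.app U.1) := by
      refine ⟨fun a b hab => ?_, fun t => ?_⟩
      · refine hbij.1 ?_
        rw [← hψapp U, ← hψapp U]
        exact congrArg (fun z => (ψ U z).1) hab
      · obtain ⟨a, ha⟩ := hbij.2 (ψ U t).1
        refine ⟨a, (hψbij U).1 (Subtype.ext ?_)⟩
        exact (hψapp U a).trans ha
    haveI : IsIso (h.app U.1) := (ConcreteCategory.isIso_iff_bijective _).mpr hb
    haveI : IsIso (h ∣_ U.1).appTop := by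
      rw [Scheme.Hom.appTop, morphismRestrict_app]
      haveI : IsIso (h.app (U.1.ι ''ᵁ ⊤)) := by
        rw [show U.1.ι ''ᵁ ⊤ = U.1 from U.1.ι_image_top]; assumption
      infer_instance
    exact (MorphismProperty.isomorphisms.iff _).mp ((HasAffineProperty.iff_of_isAffine
      (P := MorphismProperty.isomorphisms Scheme.{u}) (f := h ∣_ U.1)).mpr ⟨inferInstance, inferInstance⟩)
  let k : O.toScheme ⟶ Z := inv (h ∣_ O) ≫ (h ⁻¹ᵁ O).ι
  have hkh : k ≫ h = O.ι := by
    simp only [k, Category.assoc, ← morphismRestrict_ι, IsIso.inv_hom_id_assoc]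
  have hrange : k.opensRange = h ⁻¹ᵁ O := by
    simp only [k, Scheme.Hom.opensRange_comp_of_isIso, Scheme.Opens.opensRange_ι]
  -- regularity passes to the modification
  have hdense : DenseRange k.base := by
    rw [DenseRange, dense_iff_inter_open]
    intro W hW ⟨z, hz⟩
    obtain ⟨U, hU, hzU, -⟩ := exists_isAffineOpen_mem_and_subset (x := h z) (U := ⊤) trivial
    obtain ⟨r, hr, hzr⟩ := (hU.preimage h).exists_basicOpen_le (V := ⟨W, hW⟩) ⟨z, hz⟩ hzU
    by_contra hne
    let V : X.affineOpens := ⟨U, hU⟩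
    have hO : X.basicOpen (c V) ≤ O := fun y hy => by
      by_contra hyO
      have hys : y ∈ (I.support : Set X) := by rw [hsupp]; exact hyO
      have h1 := (I.mem_support_iff_of_mem (U := V) (X.basicOpen_le _ hy)).mp hys
      rw [Scheme.mem_zeroLocus_iff] at h1
      exact h1 (c V) (hcI V) hy
    have h0 : Z.basicOpen ((h.app U) (c V) * r) = ⊥ := by
      rw [eq_bot_iff, Scheme.basicOpen_mul, ← Scheme.preimage_basicOpen]
      rintro w ⟨hw1, hw2⟩
      refine hne ⟨w, hr hw2, ?_⟩
      rw [← Scheme.Hom.coe_opensRange, hrange]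
      exact hO hw1
    have h1 : (h.app U) (c V) * r = 0 := (AlgebraicGeometry.basicOpen_eq_bot_iff _).mp h0
    have h2 : r = 0 := (hψbij V).1 (by
      rw [map_zero]
      refine Subtype.ext (hcreg V _ ?_)
      have h3 := congrArg (fun z => (ψ V z).1) h1
      simp only [map_mul, map_zero, Subring.coe_mul, ZeroMemClass.coe_zero] at h3
      rwa [← hψapp V (c V)])
    rw [h2, Z.basicOpen_zero] at hzr
    exact hzr
  refine ⟨Z, h, hfin, inferInstance, k, inferInstance, hkh, hdense, hrange, hiso, fun U x hx hden hle => ?_⟩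
  obtain ⟨t, ht⟩ := (hψbij U).2 ⟨x, mem_denomAlg_of_mem O.ι I ⟨hx, hden⟩⟩
  refine ⟨t, ?_⟩
  obtain ⟨e, he⟩ := hden (c U) (hcI U)
  have h1 : (h.app U.1) (c U) * t = (h.app U.1) e := (hψbij U).1 (Subtype.ext (by
    rw [map_mul, Subring.coe_mul, ht]
    exact ((congrArg (· * x) (hψapp U (c U))).trans he).trans (hψapp U e).symm))
  have hcomp : ∀ a, k.appLE (h ⁻¹ᵁ U.1) (O.ι ⁻¹ᵁ U.1) hle (h.app U.1 a) = O.ι.app U.1 a := fun a => by
    have := congr(($(Scheme.Hom.app_eq_appLE (f := h) (U := U.1))).hom a)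
    rw [this, ← CommRingCat.comp_apply, Scheme.Hom.appLE_comp_appLE, Scheme.Hom.app_eq_appLE]
    simp only [hkh]
  have h2 := congrArg (k.appLE (h ⁻¹ᵁ U.1) (O.ι ⁻¹ᵁ U.1) hle).hom h1
  rw [map_mul, hcomp, hcomp, ← he] at h2
  refine sub_eq_zero.mp (hcreg U _ ?_)
  rw [mul_sub, h2, sub_self]

end Groth.Agent.FinBirat
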